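import Mathlib.LinearAlgebra.FreeModule.PID
import Mathlib.LinearAlgebra.Matrix.Basis
import Mathlib.RingTheory.Localization.Module
import Mathlib.LinearAlgebra.Dimension.Finite

/-!
Bases adapted to filtrations of a free module by saturated submodules, and the diagonal form of an invertible
matrix over the fraction field of a principal ideal domain.
-/

set_option autoImplicit false
set_option linter.style.haveILetI false
universe u

open scoped Matrix

namespace Groth.Agent.GL44

variable {R : Type u} [CommRing R] [IsDomain R] [IsPrincipalIdealRing R] {M : Type u} [AddCommGroup M] [Module R M]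
  [Module.Finite R M] [Module.IsTorsionFree R M]

theorem exists_adapted_fin (N : ℕ → Submodule R M) (h0 : N 0 = ⊥) (hmono : Monotone N)
    (hsat : ∀ i, ∀ (r : R) (m : M), r ≠ 0 → r • m ∈ N i → m ∈ N i) (D : ℕ) :
    ∃ (ι : Type u) (_ : Fintype ι) (b : ι → M) (w : ι → ℕ), LinearIndependent R b ∧ (∀ j, w j ≤ D) ∧
      (∀ j, b j ∈ N (w j)) ∧ ∀ i ≤ D, N i ≤ Submodule.span R (b '' {j | w j ≤ i}) := by
  induction D with
  | zero =>
    refine ⟨PEmpty, inferInstance, PEmpty.elim, PEmpty.elim, linearIndependent_empty_type, fun j => j.elim,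
      fun j => j.elim, fun i hi => ?_⟩
    rw [Nat.le_zero.1 hi, h0]
    exact bot_le
  | succ D ih =>
    obtain ⟨ι, _, b, w, hb, hwD, hbN, hsp⟩ := ih
    let Q : Submodule R (M ⧸ N D) := (N (D + 1)).map (N D).mkQ
    haveI : Module.IsTorsionFree R (M ⧸ N D) := by
      refine Module.IsTorsionFree.of_smul_eq_zero fun r x hx => ?_
      obtain ⟨m, rfl⟩ := Submodule.Quotient.mk_surjective _ x
      rw [← Submodule.Quotient.mk_smul, Submodule.Quotient.mk_eq_zero] at hx
      rcases eq_or_ne r 0 with hr | hr
      · exact Or.inl hr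
      · exact Or.inr ((Submodule.Quotient.mk_eq_zero _).2 (hsat D r m hr hx))
    haveI : Module.IsTorsionFree R Q := inferInstance
    haveI : Module.Free R Q := Module.free_of_finite_type_torsion_free'
    let c := Module.Free.chooseBasis R Q
    have hlift : ∀ k, ∃ m ∈ N (D + 1), (N D).mkQ m = (c k : M ⧸ N D) := fun k => Submodule.mem_map.1 (c k).2
    choose m hm hmc using hlift
    have hf : LinearIndependent R fun j => (⟨b j, hmono (hwD j) (hbN j)⟩ : N D) :=
      LinearIndependent.of_comp (N D).subtype hb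
    have hq : LinearIndependent R (Submodule.Quotient.mk ∘ m : _ → M ⧸ N D) := by
      rw [show (Submodule.Quotient.mk ∘ m : _ → M ⧸ N D) = Q.subtype ∘ c from funext hmc]
      exact c.linearIndependent.map' _ (Submodule.ker_subtype Q)
    refine ⟨ι ⊕ Module.Free.ChooseBasisIndex R Q, inferInstance, Sum.elim b m, Sum.elim w (fun _ => D + 1),
      hf.sumElim_of_quotient m hq, ?_, ?_, fun i hi => ?_⟩
    · rintro (j | k)
      · exact (hwD j).trans (Nat.le_succ D)
      · exact le_rfl
    · rintro (j | k)
      · exact hbN j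
      · exact hm k
    · rcases hi.lt_or_eq with hi' | rfl
      · refine (hsp i (Nat.lt_succ_iff.1 hi')).trans (Submodule.span_mono ?_)
        rintro _ ⟨j, hj, rfl⟩
        exact ⟨Sum.inl j, hj, rfl⟩
      · intro x hx
        have hx' : (⟨(N D).mkQ x, Submodule.mem_map_of_mem hx⟩ : Q) ∈ Submodule.span R (Set.range c) := by
          rw [c.span_eq]; trivial
        obtain ⟨a, ha⟩ := (Submodule.mem_span_range_iff_exists_fun R).1 hx'
        have hd : x - ∑ k, a k • m k ∈ N D := by
          rw [← Submodule.Quotient.mk_eq_zero]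
          change (N D).mkQ (x - ∑ k, a k • m k) = 0
          have := congrArg Subtype.val ha
          simp only [AddSubmonoidClass.coe_finsetSum, SetLike.val_smul] at this
          simp only [map_sub, map_sum, map_smul, hmc, sub_eq_zero]
          exact this.symm
        rw [← sub_add_cancel x (∑ k, a k • m k)]
        refine Submodule.add_mem _ (Submodule.span_mono ?_ (hsp D le_rfl hd)) (Submodule.sum_mem _ fun k _ => ?_)
        · rintro _ ⟨j, -, rfl⟩
          exact ⟨Sum.inl j, (hwD j).trans (Nat.le_succ D), rfl⟩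
        · exact Submodule.smul_mem _ _ (Submodule.subset_span ⟨Sum.inr k, show D + 1 ≤ D + 1 from le_rfl, rfl⟩)

/-- A basis adapted to a finite filtration by saturated submodules. -/
theorem exists_adapted {n : ℕ} (N : ℕ → Submodule R (Fin n → R)) (h0 : N 0 = ⊥) (hmono : Monotone N)
    (hsat : ∀ i, ∀ (r : R) (m : Fin n → R), r ≠ 0 → r • m ∈ N i → m ∈ N i) (D : ℕ) (hD : N D = ⊤) :
    ∃ (b : Module.Basis (Fin n) R (Fin n → R)) (w : Fin n → ℕ), (∀ j, b j ∈ N (w j)) ∧
      ∀ i, N i ≤ Submodule.span R (b '' {j | w j ≤ i}) := by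
  obtain ⟨ι, _, b, w, hb, hwD, hbN, hsp⟩ := exists_adapted_fin N h0 hmono hsat D
  have htop : ⊤ ≤ Submodule.span R (Set.range b) := by
    rw [← hD]
    exact (hsp D le_rfl).trans (Submodule.span_mono (Set.image_subset_range _ _))
  let B := Module.Basis.mk hb htop
  let e : Fin n ≃ ι := (Pi.basisFun R (Fin n)).indexEquiv B
  refine ⟨B.reindex e.symm, w ∘ e, fun j => ?_, fun i => ?_⟩
  · simpa [B] using hbN (e j)
  · have hsub : b '' {j | w j ≤ i} ⊆ B.reindex e.symm '' {j | (w ∘ e) j ≤ i} := by
      rintro _ ⟨j, hj, rfl⟩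
      exact ⟨e.symm j, by simpa using hj, by simp [B]⟩
    rcases le_or_gt i D with hi | hi
    · exact (hsp i hi).trans (Submodule.span_mono hsub)
    · refine le_top.trans (htop.trans (Submodule.span_mono ?_))
      rintro _ ⟨j, rfl⟩
      exact hsub ⟨j, (hwD j).trans hi.le, rfl⟩

end Groth.Agent.GL44
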