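import Groth.Agent.AlgSt88.QuotFib
import Groth.Agent.AlgSt88.QuotTriv

/-!
Morphisms of trivial objects of a quotient category given by translations.
-/

set_option autoImplicit false
set_option linter.style.haveILetI false
set_option backward.isDefEq.respectTransparency false
set_option backward.isDefEq.respectTransparency.types false
universe u

open CategoryTheory CategoryTheory.Limits MonoidalCategory CartesianMonoidalCategory AlgebraicGeometry AlgSt
open Groth.Agent.AlgSt88
open scoped MonObj GrpObj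

noncomputable section

namespace Groth.Agent.GL44

variable {S : Scheme.{u}} {G X : Over S} [GrpObj G] (a : AlgGrp.Action G X)

/-- The trivial object at a point. -/
abbrev qObj {T : Over S} (x : T ⟶ X) : QuotObj Scheme.fppfPrecoverage G a :=
  (quotMap Scheme.fppfPrecoverage G a).obj ⟨T, ⟨x⟩⟩

variable {T T' T'' : Over S} {x : T ⟶ X} {x' : T' ⟶ X} {x'' : T'' ⟶ X}

/-- The morphism given by a base morphism and a translation. -/
def qHom (f : T ⟶ T') (g : T ⟶ G) (e : lift g (f ≫ x') ≫ a.act = x) : qObj a x ⟶ qObj a x' :=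
  ((exists_quot_hom_over a f x x').2 g e).choose

theorem qHom_base (f : T ⟶ T') (g : T ⟶ G) (e : lift g (f ≫ x') ≫ a.act = x) : (qHom a f g e).base = f :=
  ((exists_quot_hom_over a f x x').2 g e).choose_spec.1

theorem qHom_top (f : T ⟶ T') (g : T ⟶ G) (e : lift g (f ≫ x') ≫ a.act = x) :
    (qHom a f g e).top = lift (fst G T * (snd G T ≫ g)) (snd G T ≫ f) :=
  ((exists_quot_hom_over a f x x').2 g e).choose_spec.2

theorem qHom_congr {f f' : T ⟶ T'} {g g' : T ⟶ G} (e : lift g (f ≫ x') ≫ a.act = x)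
    (e' : lift g' (f' ≫ x') ≫ a.act = x) (hf : f = f') (hg : g = g') : qHom a f g e = qHom a f' g' e' := by
  subst hf hg
  rfl

theorem act_comp {f : T ⟶ T'} {f' : T' ⟶ T''} {g : T ⟶ G} {g' : T' ⟶ G}
    (e : lift g (f ≫ x') ≫ a.act = x) (e' : lift g' (f' ≫ x'') ≫ a.act = x') :
    lift (g * (f ≫ g')) ((f ≫ f') ≫ x'') ≫ a.act = x := by
  rw [← e, ← e', ← Category.assoc f (lift g' (f' ≫ x'')), comp_lift, Category.assoc]
  exact AlgGrp.Action.lift_mul_act a _ _ _

theorem qHom_comp (f : T ⟶ T') (f' : T' ⟶ T'') (g : T ⟶ G) (g' : T' ⟶ G)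
    (e : lift g (f ≫ x') ≫ a.act = x) (e' : lift g' (f' ≫ x'') ≫ a.act = x') :
    qHom a f g e ≫ qHom a f' g' e' = qHom a (f ≫ f') (g * (f ≫ g')) (act_comp a e e') := by
  refine QuotObj.hom_ext ?_ ?_
  · change (qHom a f g e).base ≫ (qHom a f' g' e').base = (qHom a (f ≫ f') _ _).base
    rw [qHom_base, qHom_base, qHom_base]
  · change (qHom a f g e).top ≫ (qHom a f' g' e').top = (qHom a (f ≫ f') _ _).top
    rw [qHom_top, qHom_top, qHom_top]
    show lift (fst G T * (snd G T ≫ g)) (snd G T ≫ f) ≫ lift (fst G T' * (snd G T' ≫ g')) (snd G T' ≫ f') = _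
    rw [comp_lift, MonObj.comp_mul, lift_fst, lift_snd_assoc, lift_snd_assoc, Category.assoc, Category.assoc,
      MonObj.comp_mul, _root_.mul_assoc]

end Groth.Agent.GL44
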