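import Groth.Agent.GL44.Lau
import Groth.Agent.GL44.QuotHom
import Groth.Agent.Theta44.GmPair
import Groth.Agent.Stack44Ext.QuotAtlas
import Groth.Agent.Sga84.TorsorAff

/-!
Charts of the quotient of an affine scheme by the multiplicative group at ring-valued points.
-/

set_option autoImplicit false
set_option maxHeartbeats 1000000
set_option linter.style.haveILetI false
set_option linter.unusedSectionVars false
set_option backward.isDefEq.respectTransparency false
set_option backward.isDefEq.respectTransparency.types false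
universe u

open CategoryTheory CategoryTheory.Limits MonoidalCategory CartesianMonoidalCategory AlgebraicGeometry AlgSt
open Opposite
open Groth.Agent.AlgSt88 Groth.Agent.Theta44
open scoped TensorProduct MonObj GrpObj

noncomputable section

namespace Groth.Agent.GL44

variable {R : Type u} [CommRing R] {B : Type u} [CommRing B] [Algebra R B] {S : Scheme.{u}}
  (h : Spec (CommRingCat.of R) ⟶ S) (a : AlgGrp.Action (ThetaS.Gm R) (CoactBr.sp R B))

/-- The quotient category over the base. -/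
abbrev QS : AlgSt.Cat S := ThetaS.overS h (QuotSt Scheme.fppfPrecoverage (ThetaS.Gm R) a)

/-- The chart at a ring-valued point. -/
abbrev chartR {A : Type u} [CommRing A] [Algebra R A] (b : B →ₐ[R] A) : (QS h a).obj := qObj a (CoactBr.pt b)

variable {A A' A'' : Type u} [CommRing A] [CommRing A'] [CommRing A''] [Algebra R A] [Algebra R A'] [Algebra R A'']
  {b : B →ₐ[R] A} {b' : B →ₐ[R] A'} {b'' : B →ₐ[R] A''}

/-- The condition for a morphism of charts. -/
abbrev ChartRel (b : B →ₐ[R] A) (b' : B →ₐ[R] A') (φ : A →ₐ[R] A') (v : A'ˣ) : Prop :=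
  lift (gmPt (R := R) v) (CoactBr.pt φ ≫ CoactBr.pt b) ≫ a.act = CoactBr.pt b'

/-- The morphism of charts given by an algebra map and a unit. -/
def cMap (φ : A →ₐ[R] A') (v : A'ˣ) (e : ChartRel a b b' φ v) : chartR h a b' ⟶ chartR h a b :=
  qHom a (CoactBr.pt φ) (gmPt v) e

theorem cMap_base (φ : A →ₐ[R] A') (v : A'ˣ) (e : ChartRel a b b' φ v) : (cMap h a φ v e).base = CoactBr.pt φ :=
  qHom_base a _ _ e

theorem isHomLift_cMap (φ : A →ₐ[R] A') (v : A'ˣ) (e : ChartRel a b b' φ v) :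
    (QS h a).p.IsHomLift (Sga84.spMap h φ) (cMap h a φ v e) := by
  refine IsHomLift.of_fac' (QS h a).p (Sga84.spMap h φ) (cMap h a φ v e) rfl rfl ?_
  refine Over.OverMorphism.ext ?_
  simp only [eqToHom_refl, Category.id_comp, Category.comp_id]
  exact congrArg (fun t => t.left) (cMap_base h a φ v e)

theorem chartRel_comp {φ : A →ₐ[R] A'} {φ' : A' →ₐ[R] A''} {v : A'ˣ} {v' : A''ˣ}
    (e : ChartRel a b b' φ v) (e' : ChartRel a b' b'' φ' v') :
    ChartRel a b b'' (φ'.comp φ) (v' * Units.map φ'.toRingHom.toMonoidHom v) := by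
  have h1 := act_comp a e' e
  rw [comp_gmPt, gmPt_mul, ← CoactBr.pt_comp] at h1
  exact h1

theorem cMap_congr {φ ψ : A →ₐ[R] A'} {v w : A'ˣ} (e : ChartRel a b b' φ v) (e' : ChartRel a b b' ψ w)
    (hφ : φ = ψ) (hv : v = w) : cMap h a φ v e = cMap h a ψ w e' := by
  subst hφ hv
  rfl

theorem cMap_comp {φ : A →ₐ[R] A'} {φ' : A' →ₐ[R] A''} {v : A'ˣ} {v' : A''ˣ}
    (e : ChartRel a b b' φ v) (e' : ChartRel a b' b'' φ' v') :
    cMap h a φ' v' e' ≫ cMap h a φ v e =
      cMap h a (φ'.comp φ) (v' * Units.map φ'.toRingHom.toMonoidHom v) (chartRel_comp a e e') := by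
  refine (qHom_comp a _ _ _ _ e' e).trans (qHom_congr a _ _ ?_ ?_)
  · rw [← CoactBr.pt_comp]
  · rw [comp_gmPt, gmPt_mul]

theorem chartRel_one {φ : A →ₐ[R] A'} (e : φ.comp b = b') : ChartRel a b b' φ 1 := by
  unfold ChartRel
  rw [gmPt_one, ← CoactBr.pt_comp, e]
  exact AlgGrp.Action.lift_one_act a _

variable {p q : B} {ψ : B →ₐ[R] B ⊗[R] ThetaS.Lau R}

theorem preimage_basicOpen_inv (hψ : univPt R B ≫ a.act = CoactBr.pt ψ) {c : B}
    (hc : ∃ v, IsUnit v ∧ ψ c = v * (c ⊗ₜ[R] 1)) :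
    a.act.left ⁻¹ᵁ (CoactBr.sp R B).left.basicOpen (fnOf (R := R) B c) =
      (snd (ThetaS.Gm R) (CoactBr.sp R B)).left ⁻¹ᵁ (CoactBr.sp R B).left.basicOpen (fnOf (R := R) B c) := by
  obtain ⟨v, hv, hvc⟩ := hc
  haveI : IsIso (univPt R B).left := inferInstanceAs (IsIso ((Over.forget _).map (univPt R B)))
  have hi : Function.Injective fun U : (ThetaS.Gm R ⊗ CoactBr.sp R B).left.Opens => (univPt R B).left ⁻¹ᵁ U := by
    intro U U' hUU
    ext x
    obtain ⟨y, rfl⟩ := (univPt R B).left.surjective x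
    exact Iff.of_eq (congrArg (fun W => y ∈ W) hUU)
  rw [Scheme.preimage_basicOpen_top, Scheme.preimage_basicOpen_top]
  apply hi
  show (univPt R B).left ⁻¹ᵁ _ = (univPt R B).left ⁻¹ᵁ _
  have happ : (univPt R B).left.appTop (a.act.left.appTop (fnOf (R := R) B c)) = fnOf (R := R) _ (ψ c) := by
    rw [← pt_appTop ψ c, ← hψ]
    rfl
  have hsnd : (univPt R B).left.appTop ((snd (ThetaS.Gm R) (CoactBr.sp R B)).left.appTop (fnOf (R := R) B c)) =
      fnOf (R := R) _ (c ⊗ₜ[R] (1 : ThetaS.Lau R)) := by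
    rw [← Algebra.TensorProduct.includeLeft_apply (R := R) (S := R), ← pt_appTop,
      show CoactBr.pt (Algebra.TensorProduct.includeLeft : B →ₐ[R] _) =
        univPt R B ≫ snd (ThetaS.Gm R) (CoactBr.sp R B) from (lift_snd _ _).symm]
    rfl
  rw [Scheme.preimage_basicOpen_top, Scheme.preimage_basicOpen_top, happ, hsnd, hvc]
  simp only [fnOf, map_mul]
  have hu : IsUnit (fnOf (R := R) _ v) :=
    hv.map (Scheme.ΓSpecIso (CommRingCat.of (B ⊗[R] ThetaS.Lau R))).inv.hom
  rw [Scheme.basicOpen_mul]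
  erw [Scheme.basicOpen_of_isUnit (CoactBr.sp R (B ⊗[R] ThetaS.Lau R)).left hu]
  rw [top_inf_eq]

/-- The open part. -/
abbrev opn (p q : B) : (CoactBr.sp R B).left.Opens :=
  (CoactBr.sp R B).left.basicOpen (fnOf (R := R) B p) ⊔ (CoactBr.sp R B).left.basicOpen (fnOf (R := R) B q)

theorem lands_chartR [IsAffineHom (ThetaS.Gm R).hom] (hinv : a.act.left ⁻¹ᵁ opn (R := R) p q =
      (snd (ThetaS.Gm R) (CoactBr.sp R B)).left ⁻¹ᵁ opn (R := R) p q)
    (b : B →ₐ[R] A) (hb : IsUnit (b p) ∨ IsUnit (b q)) :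
    Lands h a (opn (R := R) p q) (chartR h a b) := by
  have e : (chartR h a b).φ = (ThetaS.Gm R ◁ CoactBr.pt b) ≫ a.act := rfl
  unfold Lands
  rw [e, Over.comp_left, Scheme.Hom.comp_preimage, hinv, ← Scheme.Hom.comp_preimage, ← Over.comp_left,
    whiskerLeft_snd, Over.comp_left, Scheme.Hom.comp_preimage]
  have key : (CoactBr.pt b).left ⁻¹ᵁ opn (R := R) p q = ⊤ := by
    rw [Scheme.Hom.preimage_sup, Scheme.preimage_basicOpen_top, Scheme.preimage_basicOpen_top, pt_appTop,
      pt_appTop, eq_top_iff]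
    rcases hb with hb | hb
    · refine le_trans (le_of_eq ?_) le_sup_left
      exact (Scheme.basicOpen_of_isUnit (CoactBr.sp R A).left
        (hb.map (Scheme.ΓSpecIso (CommRingCat.of A)).inv.hom)).symm
    · refine le_trans (le_of_eq ?_) le_sup_right
      exact (Scheme.basicOpen_of_isUnit (CoactBr.sp R A).left
        (hb.map (Scheme.ΓSpecIso (CommRingCat.of A)).inv.hom)).symm
  rw [key]
  rfl

end Groth.Agent.GL44
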