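import Groth.Prelude.Def_FrameBundle
import Mathlib.RingTheory.Smooth.Basic
import Mathlib.AlgebraicGeometry.Morphisms.Smooth

/-!
The general linear group over any base is smooth.
-/

set_option autoImplicit false
set_option linter.style.haveILetI false
set_option linter.unusedSectionVars false
universe u

open CategoryTheory CategoryTheory.Limits AlgebraicGeometry
open scoped TensorProduct
open CoordGrp

noncomputable section

namespace Groth.Agent.GL44

variable {k : Type u} [CommRing k] {n : ℕ}

theorem glAlg_ext {B : Type u} [CommRing B] [Algebra k B] {f g : CoordGrp.GLn n k →ₐ[k] B}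
    (h : ∀ i j, f (GLn.X i j) = g (GLn.X i j)) : f = g := by
  refine GLn.algHom_ext h ?_
  have hdet : f GLn.det = g GLn.det := by
    rw [GLn.det_eq, AlgHom.map_det, AlgHom.map_det]
    congr 1
    ext i j
    exact h i j
  have h1 : f GLn.Dinv * f GLn.det = 1 := by rw [← map_mul, GLn.Dinv_mul_det, map_one]
  have h2 : g GLn.Dinv * g GLn.det = 1 := by rw [← map_mul, GLn.Dinv_mul_det, map_one]
  rw [← hdet] at h2
  exact left_inv_eq_right_inv h1 ((mul_comm _ _).trans h2)

theorem glAlg_smooth : Algebra.Smooth k (CoordGrp.GLn n k) := by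
  haveI : Algebra.FinitePresentation k (GLb n k) :=
    inferInstanceAs (Algebra.FinitePresentation k (MvPolynomial (GLPoly.Idx n) k))
  haveI : Algebra.FinitePresentation k (CoordGrp.GLn n k) :=
    Algebra.FinitePresentation.quotient (Submodule.fg_span_singleton (GLb.rel n k))
  refine ⟨Algebra.FormallySmooth.of_comp_surjective fun B _ _ I hI f => ?_, this⟩
  choose M hM using fun i j => Ideal.Quotient.mk_surjective (f (GLn.X i j))
  have hdet : Ideal.Quotient.mk I (Matrix.det (Matrix.of M)) = f GLn.det := by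
    rw [RingHom.map_det, GLn.det_eq, AlgHom.map_det]
    congr 1
    ext i j
    exact hM i j
  have hu : IsUnit (Matrix.det (Matrix.of M)) := by
    obtain ⟨d, hd⟩ := Ideal.Quotient.mk_surjective (I := I) (f GLn.Dinv)
    have h1 : Ideal.Quotient.mk I (d * Matrix.det (Matrix.of M)) = 1 := by
      rw [map_mul, hd, hdet, ← map_mul, GLn.Dinv_mul_det, map_one]
    have h2 : d * Matrix.det (Matrix.of M) - 1 ∈ I := by
      rw [← Ideal.Quotient.eq_zero_iff_mem, map_sub, h1, map_one, sub_self]
    have h3 : IsNilpotent (d * Matrix.det (Matrix.of M) - 1) :=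
      ⟨2, by
        have := Ideal.pow_mem_pow h2 2
        rwa [hI, Ideal.mem_bot] at this⟩
    have h4 := h3.isUnit_add_one
    rw [sub_add_cancel] at h4
    exact isUnit_of_mul_isUnit_right h4
  refine ⟨GLn.pt n k (Matrix.of M) ↑(hu.unit⁻¹) (IsUnit.mul_val_inv hu), glAlg_ext fun i j => ?_⟩
  rw [AlgHom.comp_apply, GLn.pt_X]
  exact hM i j

theorem smooth_GLn (n : ℕ) (S : Scheme.{u}) : Smooth (FrB.GLn n S).hom := by
  have h : Smooth (FrB.GLZ.{u} n).hom := by
    change Smooth (Spec.map (CommRingCat.ofHom (algebraMap (ULift.{u} ℤ) (CoordGrp.GLn n (ULift.{u} ℤ)))))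
    rw [HasRingHomProperty.Spec_iff (P := @Smooth)]
    exact RingHom.smooth_algebraMap.2 glAlg_smooth
  exact MorphismProperty.pullback_snd (P := @Smooth) _ _ h

end Groth.Agent.GL44
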