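import Groth.Agent.GL44.Chart

/-!
The atlas of the quotient of an affine scheme by the multiplicative group with the complement of a regular
semi-invariant pair.
-/

set_option autoImplicit false
set_option maxHeartbeats 1000000
set_option linter.style.haveILetI false
set_option linter.unusedSectionVars false
set_option backward.isDefEq.respectTransparency false
set_option backward.isDefEq.respectTransparency.types false
universe u

open CategoryTheory CategoryTheory.Limits MonoidalCategory CartesianMonoidalCategory AlgebraicGeometry AlgSt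
open Groth.Agent.AlgSt88 Groth.Agent.Theta44
open scoped TensorProduct MonObj GrpObj

noncomputable section

namespace Groth.Agent.GL44

variable {R : Type u} [CommRing R] {B : Type u} [CommRing B] [Algebra R B] {S : Scheme.{u}}
  (h : Spec (CommRingCat.of R) ⟶ S) (a : AlgGrp.Action (ThetaS.Gm R) (CoactBr.sp R B))
  {p q : B} {ψ : B →ₐ[R] B ⊗[R] ThetaS.Lau R}

theorem isAffineHom_gm : IsAffineHom (ThetaS.Gm R).hom :=
  inferInstanceAs (IsAffineHom (Spec.map (CommRingCat.ofHom (algebraMap R (ThetaS.Lau R)))))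

theorem opn_inv (hψ : univPt R B ≫ a.act = CoactBr.pt ψ) (hψp : ∃ v, IsUnit v ∧ ψ p = v * (p ⊗ₜ[R] 1))
    (hψq : ∃ v, IsUnit v ∧ ψ q = v * (q ⊗ₜ[R] 1)) :
    a.act.left ⁻¹ᵁ opn (R := R) p q = (snd (ThetaS.Gm R) (CoactBr.sp R B)).left ⁻¹ᵁ opn (R := R) p q := by
  show a.act.left ⁻¹ᵁ (_ ⊔ _) = _ ⁻¹ᵁ (_ ⊔ _)
  rw [Scheme.Hom.preimage_sup, Scheme.Hom.preimage_sup, preimage_basicOpen_inv a hψ hψp,
    preimage_basicOpen_inv a hψ hψq]

theorem exists_gmAtlas (hp : ∀ c, p * c = 0 → c = 0) (hq : ∀ c, p ∣ q * c → p ∣ c)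
    (hinv : a.act.left ⁻¹ᵁ opn (R := R) p q = (snd (ThetaS.Gm R) (CoactBr.sp R B)).left ⁻¹ᵁ opn (R := R) p q) :
    ∃ (D : Stack44Ext.Atlas (QS h a) (Lands h a (opn (R := R) p q))) (eV : D.A₀ = chartR h a (AlgHom.id R B)),
      IsOpenImmersion ((QS h a).p.map D.j₀).left ∧
      ∀ x : ↥((QS h a).p.obj D.AV).left, ((QS h a).p.map D.j₀ ≫ eqToHom (congrArg (QS h a).p.obj eV) :
        (QS h a).p.obj D.AV ⟶ Sga84.sp h B).left x ∈ opn (R := R) p q := by
  haveI := isAffineHom_gm (R := R)
  haveI := flat_gm R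
  haveI := lfp_gm R
  haveI : IsAffine (CoactBr.sp R B).left := inferInstanceAs (IsAffine (Spec (CommRingCat.of B)))
  let e : B ≃+* Γ((CoactBr.sp R B).left, ⊤) := (Scheme.ΓSpecIso (CommRingCat.of B)).commRingCatIsoToRingEquiv.symm
  have hpq : Stack44Ext.RegPair (fnOf (R := R) B p) (fnOf (R := R) B q) := by
    constructor
    · intro c hc
      obtain ⟨c, rfl⟩ := e.surjective c
      have : e (p * c) = 0 := by rw [map_mul]; exact hc
      rw [hp c (e.injective (this.trans (map_zero e).symm)), map_zero]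
    · rintro c ⟨d, hd⟩
      obtain ⟨c, rfl⟩ := e.surjective c
      obtain ⟨d, rfl⟩ := e.surjective d
      have h1 : e (q * c) = e (p * d) := by rw [map_mul, map_mul]; exact hd
      obtain ⟨r, rfl⟩ := hq c ⟨d, e.injective h1⟩
      exact ⟨e r, by rw [map_mul]; rfl⟩
  obtain ⟨D, eV, eA, ej⟩ := Stack44Ext.exists_quotAtlas h a (opn (R := R) p q) hinv hpq rfl
  have eid : Stack44Ext.chart a (𝟙 (CoactBr.sp R B)) = chartR h a (AlgHom.id R B) :=
    congrArg (fun y : CoactBr.sp R B ⟶ CoactBr.sp R B => Stack44Ext.chart a y) CoactBr.pt_id.symm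
  let oV : Over.mk ((opn (R := R) p q).ι ≫ (CoactBr.sp R B).hom) ⟶ CoactBr.sp R B := Over.homMk (opn (R := R) p q).ι rfl
  have hb : (QS h a).p.map (Stack44Ext.chartHom a oV _ (𝟙 (CoactBr.sp R B)) (Category.comp_id _)) = (Over.map h).map oV := rfl
  have e1 : (QS h a).p.map D.j₀ ≫ eqToHom (congrArg (QS h a).p.obj (eV.trans eid)) =
      eqToHom (congrArg (QS h a).p.obj eA) ≫ (Over.map h).map oV := by
    have hm : (QS h a).p.map D.j₀ = eqToHom (congrArg (QS h a).p.obj eA) ≫
        (QS h a).p.map (Stack44Ext.chartHom a oV _ (𝟙 (CoactBr.sp R B)) (Category.comp_id _)) ≫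
          eqToHom (congrArg (QS h a).p.obj eV).symm := by
      rw [ej]
      simp only [Functor.map_comp, eqToHom_map]
      rfl
    rw [hm, Category.assoc, Category.assoc, eqToHom_trans, hb, eqToHom_refl]
    exact congrArg (eqToHom (congrArg (QS h a).p.obj eA) ≫ ·) (Category.comp_id ((Over.map h).map oV))
  have e2 := congrArg (fun t => t.left) e1
  haveI : IsIso (eqToHom (congrArg (QS h a).p.obj eA)).left :=
    inferInstanceAs (IsIso ((Over.forget S).map (eqToHom (congrArg (QS h a).p.obj eA))))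
  refine ⟨D, eV.trans eid, ?_, fun x => ?_⟩
  · haveI : IsIso (eqToHom (congrArg (QS h a).p.obj (eV.trans eid))).left :=
      inferInstanceAs (IsIso ((Over.forget S).map (eqToHom (congrArg (QS h a).p.obj (eV.trans eid)))))
    haveI : IsOpenImmersion ((Over.map h).map oV).left :=
      inferInstanceAs (IsOpenImmersion (opn (R := R) p q).ι)
    haveI : IsOpenImmersion (((QS h a).p.map D.j₀).left ≫ (eqToHom (congrArg (QS h a).p.obj (eV.trans eid))).left) := by
      rw [← Over.comp_left, e1, Over.comp_left]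
      infer_instance
    exact IsOpenImmersion.of_comp _ (eqToHom (congrArg (QS h a).p.obj (eV.trans eid))).left
  · have hx : (opn (R := R) p q).ι ((eqToHom (congrArg (QS h a).p.obj eA)).left x) ∈ opn (R := R) p q :=
      ((eqToHom (congrArg (QS h a).p.obj eA)).left x).2
    exact Eq.mpr (congrArg (fun y => y ∈ opn (R := R) p q) (congrArg (fun t => t x) e2)) hx

end Groth.Agent.GL44
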