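import Groth.Agent.GL44.Split
import Mathlib.AlgebraicGeometry.OpenImmersion
import Mathlib.AlgebraicGeometry.Morphisms.Preimmersion
import Mathlib.Algebra.Polynomial.Laurent
import Mathlib.RingTheory.DiscreteValuationRing.Basic
import Mathlib.RingTheory.Spectrum.Prime.RingHom

/-!
Open immersions from localisations, and the rings of the charts.
-/

set_option autoImplicit false
set_option linter.style.haveILetI false
set_option linter.unusedSectionVars false
universe u

open CategoryTheory CategoryTheory.Limits AlgebraicGeometry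
open scoped Polynomial

noncomputable section

namespace Groth.Agent.GL44

theorem isPullback_of_openImmersion {A B C D : Scheme.{u}} {f₁ : A ⟶ B} {f₂ : A ⟶ C} {g₁ : B ⟶ D} {g₂ : C ⟶ D}
    [IsOpenImmersion g₁] [IsOpenImmersion g₂] [IsOpenImmersion f₁] (w : f₁ ≫ g₁ = f₂ ≫ g₂)
    (hr : Set.range g₁ ∩ Set.range g₂ ⊆ Set.range (f₁ ≫ g₁)) : IsPullback f₁ f₂ g₁ g₂ := by
  have hl : ∀ s : PullbackCone g₁ g₂, Set.range (s.fst ≫ g₁) ⊆ Set.range (f₁ ≫ g₁) := fun s => by
    rintro _ ⟨x, rfl⟩
    refine hr ⟨⟨s.fst x, rfl⟩, ⟨s.snd x, ?_⟩⟩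
    exact (congrArg (fun t => t x) s.condition).symm
  refine ⟨⟨w⟩, ⟨PullbackCone.IsLimit.mk w (fun s => IsOpenImmersion.lift (f₁ ≫ g₁) (s.fst ≫ g₁) (hl s))
    (fun s => ?_) (fun s => ?_) (fun s m h₁ h₂ => ?_)⟩⟩
  · rw [← cancel_mono g₁, Category.assoc]
    exact IsOpenImmersion.lift_fac _ _ _
  · rw [← cancel_mono g₂, Category.assoc, ← w, ← s.condition]
    exact IsOpenImmersion.lift_fac _ _ _
  · rw [← cancel_mono (f₁ ≫ g₁), IsOpenImmersion.lift_fac, ← Category.assoc, h₁]

variable {B A₁ A₂ A₁₂ : Type u} [CommRing B] [CommRing A₁] [CommRing A₂] [CommRing A₁₂]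

/-- The ring map is a localisation at an element. -/
def IsAway (f : B →+* A₁) (p : B) : Prop :=
  letI := f.toAlgebra
  IsLocalization.Away p A₁

theorem IsAway.isOpenImmersion {f : B →+* A₁} {p : B} (h : IsAway f p) :
    IsOpenImmersion (Spec.map (CommRingCat.ofHom f)) := by
  letI := f.toAlgebra
  haveI : IsLocalization.Away p A₁ := h
  exact IsOpenImmersion.of_isLocalization (S := A₁) p

theorem IsAway.range {f : B →+* A₁} {p : B} (h : IsAway f p) :
    Set.range (Spec.map (CommRingCat.ofHom f)) = ((PrimeSpectrum.basicOpen p : TopologicalSpace.Opens _) : Set (PrimeSpectrum B)) := by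
  letI := f.toAlgebra
  haveI : IsLocalization.Away p A₁ := h
  exact PrimeSpectrum.localization_away_comap_range A₁ p

theorem IsAway.isUnit {f : B →+* A₁} {p : B} (h : IsAway f p) : IsUnit (f p) := by
  letI := f.toAlgebra
  haveI : IsLocalization.Away p A₁ := h
  exact IsLocalization.Away.algebraMap_isUnit p

theorem isAway_iff {f : B →+* A₁} {p : B} :
    IsAway f p ↔ IsUnit (f p) ∧ (∀ z, ∃ (k : ℕ) (c : B), z * f p ^ k = f c) ∧
      ∀ c, f c = 0 → ∃ k : ℕ, p ^ k * c = 0 := by
  letI := f.toAlgebra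
  constructor
  · intro h
    haveI : IsLocalization.Away p A₁ := h
    refine ⟨IsLocalization.Away.algebraMap_isUnit p, fun z => ?_, fun c hc => ?_⟩
    · obtain ⟨⟨c, ⟨_, k, rfl⟩⟩, hk⟩ := IsLocalization.surj (Submonoid.powers p) z
      exact ⟨k, c, by simpa [RingHom.algebraMap_toAlgebra] using hk⟩
    · obtain ⟨⟨_, k, rfl⟩, hk⟩ := (IsLocalization.map_eq_zero_iff (Submonoid.powers p) A₁ c).1 hc
      exact ⟨k, hk⟩
  · rintro ⟨h1, h2, h3⟩
    refine { map_units := ?_, surj := ?_, exists_of_eq := ?_ }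
    · rintro ⟨_, k, rfl⟩
      rw [RingHom.algebraMap_toAlgebra, map_pow]
      exact h1.pow k
    · intro z
      obtain ⟨k, c, hk⟩ := h2 z
      exact ⟨⟨c, ⟨p ^ k, k, rfl⟩⟩, by simpa [RingHom.algebraMap_toAlgebra] using hk⟩
    · intro x y hxy
      obtain ⟨k, hk⟩ := h3 (x - y) (by rw [map_sub]; exact sub_eq_zero.2 hxy)
      exact ⟨⟨p ^ k, k, rfl⟩, by rw [mul_sub, sub_eq_zero] at hk; exact hk⟩

theorem isPullback_of_isAway {f₁ : B →+* A₁} {f₂ : B →+* A₂} {g₁ : A₁ →+* A₁₂} {g₂ : A₂ →+* A₁₂} {p q : B}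
    (h₁ : IsAway f₁ p) (h₂ : IsAway f₂ q) (hg : IsAway g₁ (f₁ q)) (w : g₁.comp f₁ = g₂.comp f₂) :
    IsPullback (Spec.map (CommRingCat.ofHom g₁)) (Spec.map (CommRingCat.ofHom g₂))
      (Spec.map (CommRingCat.ofHom f₁)) (Spec.map (CommRingCat.ofHom f₂)) := by
  haveI := h₁.isOpenImmersion
  haveI := h₂.isOpenImmersion
  haveI := hg.isOpenImmersion
  refine isPullback_of_openImmersion ?_ ?_
  · rw [← Spec.map_comp, ← Spec.map_comp, ← CommRingCat.ofHom_comp, ← CommRingCat.ofHom_comp, w]
  · rintro x ⟨⟨y, rfl⟩, hx⟩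
    rw [h₂.range] at hx
    have hy : y ∈ Set.range (Spec.map (CommRingCat.ofHom g₁)) := by
      rw [hg.range]
      exact hx
    obtain ⟨z, rfl⟩ := hy
    exact ⟨z, rfl⟩

section LP

variable {K : Type u} [CommRing K]

theorem cf_algebraMap {k : Type u} [CommRing k] [Algebra k K] (c : k) (i : ℤ) (v : LP K) :
    cf i (algebraMap k (LP K) c * v) = algebraMap k K c * cf i v := by
  rw [← Algebra.smul_def, ← algebraMap_smul K c v, map_smul, smul_eq_mul]

theorem isUnit_tp (i : ℤ) : IsUnit (tp i : LP K) :=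
  IsUnit.of_mul_eq_one (tp (-i)) (by rw [tp_mul, add_neg_cancel, tp_zero])

theorem exists_bound (v : LP K) : ∃ N : ℕ, ∀ i ∈ supp v, -(N : ℤ) ≤ i :=
  ⟨(supp v).sup Int.natAbs, fun i hi => by
    have := Finset.le_sup (f := Int.natAbs) hi
    omega⟩

/-- The polynomial ring to the Laurent algebra. -/
def toLP (K : Type u) [CommRing K] : K[X] →ₐ[K] LP K := Polynomial.aeval (tp 1)

theorem cf_toLP (f : K[X]) (k : ℕ) : cf (k : ℤ) (toLP K f) = f.coeff k := by
  induction f using Polynomial.induction_on' with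
  | add f g hf hg => rw [map_add, map_add, hf, hg, Polynomial.coeff_add]
  | monomial m c =>
    rw [toLP, Polynomial.aeval_monomial, tp_pow, ← Algebra.smul_def, map_smul, cf_tp, Polynomial.coeff_monomial]
    by_cases hmk : k = m
    · subst hmk; simp
    · rw [if_neg (by exact_mod_cast hmk), if_neg (Ne.symm hmk), smul_zero]

theorem toLP_injective : Function.Injective (toLP K) := fun f g e =>
  Polynomial.ext fun k => by rw [← cf_toLP, e, cf_toLP]

theorem toLP_mem_pol (f : K[X]) : toLP K f ∈ (pol : Subalgebra K (LP K)) := by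
  induction f using Polynomial.induction_on' with
  | add f g hf hg => rw [map_add]; exact add_mem hf hg
  | monomial m c =>
    rw [toLP, Polynomial.aeval_monomial, tp_pow]
    exact mul_mem (Subalgebra.algebraMap_mem _ _) (tp_mem_pol (Int.natCast_nonneg m))

theorem exists_toLP {v : LP K} (hv : v ∈ (pol : Subalgebra K (LP K))) : ∃ f, toLP K f = v := by
  refine ⟨∑ i ∈ supp v, Polynomial.monomial i.toNat (cf i v), ?_⟩
  conv_rhs => rw [eq_sum_tp v (supp v) subset_rfl]
  rw [map_sum]
  refine Finset.sum_congr rfl fun i _ => ?_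
  rw [toLP, Polynomial.aeval_monomial, tp_pow, ← Algebra.smul_def]
  rcases lt_or_ge i 0 with hi | hi
  · rw [mem_pol.1 hv i hi, zero_smul, zero_smul]
  · rw [Int.toNat_of_nonneg hi]

theorem isAway_toLP : IsAway (toLP K).toRingHom (Polynomial.X : K[X]) := by
  refine isAway_iff.2 ⟨?_, fun z => ?_, fun c hc => ⟨0, ?_⟩⟩
  · show IsUnit (toLP K Polynomial.X)
    rw [toLP, Polynomial.aeval_X]
    exact isUnit_tp 1
  · obtain ⟨N, hN⟩ := exists_bound z
    obtain ⟨f, hf⟩ := exists_toLP (v := z * tp (N : ℤ)) (mem_pol.2 fun i hi => by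
      rw [mul_comm, cf_tp_mul]
      exact cf_eq_zero_of_notMem fun hm => by have := hN _ hm; omega)
    refine ⟨N, f, ?_⟩
    show z * toLP K Polynomial.X ^ N = toLP K f
    rw [hf, toLP, Polynomial.aeval_X, tp_pow]
  · rw [pow_zero, one_mul]
    exact toLP_injective (hc.trans (map_zero _).symm)

end LP

section Frac

variable {R : Type u} [CommRing R] [IsDomain R] [IsDiscreteValuationRing R] {F : Type u} [Field F] [Algebra R F]
  [IsFractionRing R F]

theorem exists_pow_mul {π : R} (hπ : Irreducible π) (x : F) :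
    ∃ (k : ℕ) (c : R), x * algebraMap R F π ^ k = algebraMap R F c := by
  obtain ⟨c, s, hs, rfl⟩ := IsFractionRing.div_surjective (A := R) x
  obtain ⟨k, v, rfl⟩ := IsDiscreteValuationRing.eq_unit_mul_pow_irreducible (nonZeroDivisors.ne_zero hs) hπ
  refine ⟨k, c * ↑v⁻¹, ?_⟩
  have h0 : algebraMap R F π ^ k ≠ 0 :=
    pow_ne_zero _ fun e => hπ.ne_zero (IsFractionRing.injective R F (e.trans (map_zero _).symm))
  have hv0 : algebraMap R F (v : R) ≠ 0 := fun e =>
    v.ne_zero (IsFractionRing.injective R F (e.trans (map_zero _).symm))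
  rw [map_mul, map_mul, map_pow, show algebraMap R F (↑v⁻¹ : R) = (algebraMap R F (v : R))⁻¹ from
    eq_inv_of_mul_eq_one_left (by rw [← map_mul, Units.inv_mul, map_one])]
  field_simp

theorem exists_pow_mul_finset {π : R} (hπ : Irreducible π) {ι : Type*} (s : Finset ι) (x : ι → F) :
    ∃ k : ℕ, ∀ i ∈ s, ∃ c : R, x i * algebraMap R F π ^ k = algebraMap R F c := by
  classical
  induction s using Finset.induction with
  | empty => exact ⟨0, fun i hi => absurd hi (Finset.notMem_empty i)⟩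
  | insert j s _ ih =>
    obtain ⟨k, hk⟩ := ih
    obtain ⟨l, c, hl⟩ := exists_pow_mul hπ (x j)
    refine ⟨l + k, fun i hi => ?_⟩
    rcases Finset.mem_insert.1 hi with rfl | hi
    · exact ⟨c * π ^ k, by rw [map_mul, map_pow, ← hl, pow_add, mul_assoc]⟩
    · obtain ⟨d, hd⟩ := hk i hi
      exact ⟨d * π ^ l, by rw [map_mul, map_pow, ← hd, pow_add]; ring⟩

theorem isAway_polynomial {π : R} (hπ : Irreducible π) :
    IsAway (Polynomial.mapRingHom (algebraMap R F)) (Polynomial.C π) := by
  refine isAway_iff.2 ⟨?_, fun z => ?_, fun c hc => ⟨0, ?_⟩⟩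
  · rw [Polynomial.coe_mapRingHom, Polynomial.map_C]
    exact (IsUnit.mk0 _ fun e => hπ.ne_zero (IsFractionRing.injective R F (e.trans (map_zero _).symm))).map Polynomial.C
  · obtain ⟨k, hk⟩ := exists_pow_mul_finset hπ z.support z.coeff
    choose c hc using hk
    refine ⟨k, ∑ i : z.support, Polynomial.monomial (i : ℕ) (c i i.2), ?_⟩
    rw [map_sum, Polynomial.coe_mapRingHom, Polynomial.map_C, ← Polynomial.C_pow]
    conv_lhs => rw [z.as_sum_support, Finset.sum_mul, ← Finset.sum_coe_sort]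
    exact Finset.sum_congr rfl fun i _ => by
      rw [Polynomial.monomial_mul_C, hc i i.2, Polynomial.map_monomial]
  · rw [pow_zero, one_mul]
    exact Polynomial.map_injective _ (IsFractionRing.injective R F) (hc.trans (Polynomial.map_zero _).symm)

/-- The Laurent algebra over the fraction field. -/
def lpMap (R F : Type u) [CommRing R] [CommRing F] [Algebra R F] : LP R →ₐ[R] LP F :=
  MonoidAlgebra.mapAlgHom (Multiplicative ℤ) (Algebra.ofId R F)

theorem isAway_lpMap {π : R} (hπ : Irreducible π) :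
    IsAway (lpMap R F).toRingHom (algebraMap R (LP R) π) := by
  have hcf : ∀ (v : LP R) (i : ℤ), cf i (lpMap R F v) = algebraMap R F (cf i v) := fun v i => by
    show ((MonoidAlgebra.mapAlgHom (Multiplicative ℤ) (Algebra.ofId R F)) v).coeff _ = _
    rw [MonoidAlgebra.coeff_mapAlgHom]
    rfl
  refine isAway_iff.2 ⟨?_, fun z => ?_, fun c hc => ⟨0, ?_⟩⟩
  · show IsUnit (lpMap R F (algebraMap R (LP R) π))
    rw [AlgHom.commutes, IsScalarTower.algebraMap_apply R F (LP F)]
    exact (IsUnit.mk0 _ fun e => hπ.ne_zero (IsFractionRing.injective R F (e.trans (map_zero _).symm))).map _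
  · obtain ⟨k, hk⟩ := exists_pow_mul_finset hπ (supp z) (fun i => cf i z)
    choose c hc using hk
    refine ⟨k, ∑ i : supp z, c i i.2 • tp (i : ℤ), cf_ext fun l => ?_⟩
    show cf l (z * lpMap R F (algebraMap R (LP R) π) ^ k) = cf l (lpMap R F _)
    rw [← map_pow, ← map_pow, AlgHom.commutes, mul_comm, cf_algebraMap, map_pow, hcf, map_sum]
    simp only [map_smul, cf_tp, smul_eq_mul, mul_ite, mul_one, mul_zero]
    by_cases hl : l ∈ supp z
    · rw [Finset.sum_eq_single (⟨l, hl⟩ : supp z) (fun i _ hi => if_neg fun e => hi (Subtype.ext e.symm))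
        (fun hh => absurd (Finset.mem_univ _) hh), if_pos rfl, mul_comm]
      exact hc l hl
    · rw [cf_eq_zero_of_notMem hl, mul_zero,
        Finset.sum_eq_zero fun (i : supp z) _ => if_neg fun e => hl (by rw [e]; exact i.2), map_zero]
  · rw [pow_zero, one_mul]
    exact cf_ext fun i => IsFractionRing.injective R F (by
      rw [← hcf, map_zero, map_zero]
      exact (congrArg (cf i) hc).trans (map_zero _))

end Frac

end Groth.Agent.GL44
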