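import Groth.Agent.GL44.Ext
import Groth.Agent.GL44.GmAtlas
import Groth.Agent.GL44.Rings
import Groth.Agent.GL44.GLSmooth
import Groth.Agent.Stack44Ext.Glue
import Groth.Agent.AlgSt88.QuotDiag
import Groth.Agent.SpPts86.ImmDescent

/-!
The filling criterion for the classifying category of the general linear group on a two-chart open part.
-/

set_option autoImplicit false
set_option maxHeartbeats 1000000
set_option linter.style.haveILetI false
set_option linter.unusedSectionVars false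
set_option backward.isDefEq.respectTransparency false
set_option backward.isDefEq.respectTransparency.types false
universe u

open CategoryTheory CategoryTheory.Limits MonoidalCategory CartesianMonoidalCategory AlgebraicGeometry AlgSt FibCat
open Groth.Agent.AlgSt88 Groth.Agent.BGaST Groth.Agent.Theta44
open scoped TensorProduct MonObj GrpObj

noncomputable section

namespace Groth.Agent.GL44

variable {S : Scheme.{u}} {n : ℕ}

theorem flat_lfp_GLn (n : ℕ) (S : Scheme.{u}) :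
    Flat (FrB.GLn n S).hom ∧ LocallyOfFinitePresentation (FrB.GLn n S).hom := by
  haveI := smooth_GLn n S
  exact ⟨inferInstance, inferInstance⟩

theorem affDiag_BG (hG : IsAffineHom (FrB.GLn n S).hom) : Stack44Ext.AffDiag (BGc (FrB.GLn n S)) := by
  haveI := hG
  obtain ⟨h1, h2⟩ := flat_lfp_GLn n S
  exact AlgSt88.repByAlgSpWith_mono (fun _ _ a ha => SpPts86.repWith_of_isAffineMor ha)
    (AlgSt88.affine_diag_quotSt (trivAction (FrB.GLn n S)) (by
      change IsAffineHom (pullback.diagonal (𝟙 S))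
      infer_instance))

variable {R : Type u} [CommRing R] {B : Type u} [CommRing B] [Algebra R B]
  (h : Spec (CommRingCat.of R) ⟶ S) (a : AlgGrp.Action (ThetaS.Gm R) (CoactBr.sp R B))
  {p q : B} {ψ : B →ₐ[R] B ⊗[R] ThetaS.Lau R}
  {A₁ A₂ A₁₂ : Type u} [CommRing A₁] [CommRing A₂] [CommRing A₁₂] [Algebra R A₁] [Algebra R A₂] [Algebra R A₁₂]
  (b₁ : B →ₐ[R] A₁) (b₂ : B →ₐ[R] A₂) (b₁₂ : B →ₐ[R] A₁₂) (φ₁ : A₁ →ₐ[R] A₁₂) (φ₂ : A₂ →ₐ[R] A₁₂)

theorem isUnit_b12 {b₁₂ : B →ₐ[R] A₁₂} {b₁ : B →ₐ[R] A₁} {φ₁ : A₁ →ₐ[R] A₁₂} (h₁ : φ₁.comp b₁ = b₁₂) {p : B}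
    (hp : IsUnit (b₁ p)) : IsUnit (b₁₂ p) := by
  rw [← h₁]
  exact hp.map φ₁

/-- Functors on the open part fill uniquely as soon as they have frames agreeing on the overlap. -/
theorem liftsUniquely_of_frames (hG : IsAffineHom (FrB.GLn n S).hom)
    (hp : ∀ c, p * c = 0 → c = 0) (hq : ∀ c, p ∣ q * c → p ∣ c)
    (hψ : univPt R B ≫ a.act = CoactBr.pt ψ) (hψp : ∃ v, IsUnit v ∧ ψ p = v * (p ⊗ₜ[R] 1))
    (hψq : ∃ v, IsUnit v ∧ ψ q = v * (q ⊗ₜ[R] 1))
    (P : (QS h a).obj → Prop)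
    (hP : ∀ A, P A ↔ A.P.left.basicOpen (A.φ.left.appTop (fnOf (R := R) B p)) ⊔
      A.P.left.basicOpen (A.φ.left.appTop (fnOf (R := R) B q)) = ⊤)
    (hb₁ : IsAway b₁.toRingHom p) (hb₂ : IsAway b₂.toRingHom q) (hφ₁ : IsAway φ₁.toRingHom (b₁ q))
    (h₁ : φ₁.comp b₁ = b₁₂) (h₂ : φ₂.comp b₂ = b₁₂)
    (hF : ∀ (F : AlgSt.fullSub (QS h a) P ⥤ᵇ BGc (FrB.GLn n S))
      (_ : ∀ {A : Type u} [CommRing A] [Algebra R A] (b : B →ₐ[R] A), IsUnit (b p) ∨ IsUnit (b q) → P (chartR h a b)),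
      ∃ (p₁ : P (chartR h a b₁)) (p₂ : P (chartR h a b₂)) (p₁₂ : P (chartR h a b₁₂))
        (e₁ : trivObj (FrB.GLn n S) (Sga84.sp h A₁) ⟶ Fc F p₁) (he₁ : IsFrame F e₁)
        (e₂ : trivObj (FrB.GLn n S) (Sga84.sp h A₂) ⟶ Fc F p₂) (he₂ : IsFrame F e₂),
        res F (isStack_BG hG).1 e₁ he₁ φ₁ 1 (chartRel_one a h₁) (hb' := p₁₂) =
          res F (isStack_BG hG).1 e₂ he₂ φ₂ 1 (chartRel_one a h₂)) :
    LiftSq.LiftsUniquely (AlgSt.subIncl (QS h a) P) (toSelf (BGc (FrB.GLn n S))) := by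
  haveI := isAffineHom_gm (R := R)
  have hinv := opn_inv a hψ hψp hψq
  have eP : P = Lands h a (opn (R := R) p q) := funext fun A => propext ((hP A).trans (by
    unfold Lands
    show _ ↔ A.φ.left ⁻¹ᵁ (_ ⊔ _) = ⊤
    rw [Scheme.Hom.preimage_sup, Scheme.preimage_basicOpen_top, Scheme.preimage_basicOpen_top]))
  subst eP
  obtain ⟨D, eV, hj, hopn⟩ := exists_gmAtlas h a hp hq hinv
  refine Stack44Ext.liftsUniquely (affDiag_BG hG) (isStack_BG hG) D fun F => ?_
  obtain ⟨p₁, p₂, p₁₂, e₁, he₁, e₂, he₂, hagree⟩ := hF F fun b hb => lands_chartR h a hinv b hb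
  haveI := hb₁.isOpenImmersion
  haveI := hb₂.isOpenImmersion
  refine exists_ext_of_frames D (isStack_BG hG).1 F eV hj φ₁ φ₂ h₁ h₂ (fun x => ?_) ?_ e₁ he₁ e₂ he₂ hagree
  · have hx := hopn x
    rcases (TopologicalSpace.Opens.mem_sup.1 hx) with hx | hx
    · refine Or.inl ?_
      rw [hb₁.range]
      rw [show (CoactBr.sp R B).left.basicOpen (fnOf (R := R) B p) = PrimeSpectrum.basicOpen p from
        basicOpen_eq_of_affine (R := CommRingCat.of B) p] at hx
      exact hx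
    · refine Or.inr ?_
      rw [hb₂.range]
      rw [show (CoactBr.sp R B).left.basicOpen (fnOf (R := R) B q) = PrimeSpectrum.basicOpen q from
        basicOpen_eq_of_affine (R := CommRingCat.of B) q] at hx
      exact hx
  · exact isPullback_of_isAway hb₁ hb₂ hφ₁ (congrArg AlgHom.toRingHom (h₁.trans h₂.symm))

end Groth.Agent.GL44
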