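import Groth.Agent.GL44.Frame

/-!
Compatible frames on two charts give an extension on the atlas.
-/

set_option autoImplicit false
set_option maxHeartbeats 1000000
set_option linter.style.haveILetI false
set_option linter.unusedSectionVars false
set_option backward.isDefEq.respectTransparency false
set_option backward.isDefEq.respectTransparency.types false
universe u

open CategoryTheory CategoryTheory.Limits MonoidalCategory CartesianMonoidalCategory AlgebraicGeometry AlgSt FibCat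
open Groth.Agent.AlgSt88 Groth.Agent.BGaST
open scoped TensorProduct MonObj GrpObj

noncomputable section

namespace Groth.Agent.GL44

theorem isPullback_of_comp_mono {A B C D D' : Scheme.{u}} {f₁ : A ⟶ B} {f₂ : A ⟶ C} {g₁ : B ⟶ D} {g₂ : C ⟶ D}
    (j : D ⟶ D') [Mono j] (h : IsPullback f₁ f₂ (g₁ ≫ j) (g₂ ≫ j)) : IsPullback f₁ f₂ g₁ g₂ := by
  have w : f₁ ≫ g₁ = f₂ ≫ g₂ := (cancel_mono j).1 (by simpa using h.w)
  refine ⟨⟨w⟩, ⟨PullbackCone.IsLimit.mk w (fun s => h.lift s.fst s.snd (by rw [reassoc_of% s.condition]))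
    (fun s => h.lift_fst _ _ _) (fun s => h.lift_snd _ _ _)
    (fun s m h₁ h₂ => h.hom_ext (h₁.trans (h.lift_fst _ _ _).symm) (h₂.trans (h.lift_snd _ _ _).symm))⟩⟩

variable {R : Type u} [CommRing R] {B : Type u} [CommRing B] [Algebra R B] {S : Scheme.{u}} {n : ℕ}
  {h : Spec (CommRingCat.of R) ⟶ S} {a : AlgGrp.Action (ThetaS.Gm R) (CoactBr.sp R B)}
  {P : (QS h a).obj → Prop} (D : Stack44Ext.Atlas (QS h a) P)
  (hBG : IsFibGrpd (BGc (FrB.GLn n S)).p) (F : AlgSt.fullSub (QS h a) P ⥤ᵇ BGc (FrB.GLn n S))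
  {A₁ A₂ A₁₂ : Type u} [CommRing A₁] [CommRing A₂] [CommRing A₁₂] [Algebra R A₁] [Algebra R A₂] [Algebra R A₁₂]
  {b₁ : B →ₐ[R] A₁} {b₂ : B →ₐ[R] A₂} {b₁₂ : B →ₐ[R] A₁₂}

/-- Frames on the charts agreeing on the overlap give an extension on the atlas. -/
theorem exists_ext_of_frames (eV : D.A₀ = chartR h a (AlgHom.id R B))
    (hj : IsOpenImmersion ((QS h a).p.map D.j₀).left)
    (φ₁ : A₁ →ₐ[R] A₁₂) (φ₂ : A₂ →ₐ[R] A₁₂) (h₁ : φ₁.comp b₁ = b₁₂) (h₂ : φ₂.comp b₂ = b₁₂)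
    [IsOpenImmersion (Spec.map (CommRingCat.ofHom b₁.toRingHom))]
    [IsOpenImmersion (Spec.map (CommRingCat.ofHom b₂.toRingHom))]
    (hcov : ∀ x : ↥((QS h a).p.obj D.AV).left, ((QS h a).p.map D.j₀ ≫ eqToHom (congrArg (QS h a).p.obj eV) :
        (QS h a).p.obj D.AV ⟶ Sga84.sp h B).left x ∈ Set.range (Spec.map (CommRingCat.ofHom b₁.toRingHom)) ∨
      ((QS h a).p.map D.j₀ ≫ eqToHom (congrArg (QS h a).p.obj eV) :
        (QS h a).p.obj D.AV ⟶ Sga84.sp h B).left x ∈ Set.range (Spec.map (CommRingCat.ofHom b₂.toRingHom)))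
    (hsq : IsPullback (Spec.map (CommRingCat.ofHom φ₁.toRingHom)) (Spec.map (CommRingCat.ofHom φ₂.toRingHom))
      (Spec.map (CommRingCat.ofHom b₁.toRingHom)) (Spec.map (CommRingCat.ofHom b₂.toRingHom)))
    {hb₁ : P (chartR h a b₁)} {hb₂ : P (chartR h a b₂)} {hb₁₂ : P (chartR h a b₁₂)}
    (e₁ : trivObj (FrB.GLn n S) (Sga84.sp h A₁) ⟶ Fc F hb₁) (he₁ : IsFrame F e₁)
    (e₂ : trivObj (FrB.GLn n S) (Sga84.sp h A₂) ⟶ Fc F hb₂) (he₂ : IsFrame F e₂)
    (hagree : res F hBG e₁ he₁ φ₁ 1 (chartRel_one a h₁) (hb' := hb₁₂) =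
      res F hBG e₂ he₂ φ₂ 1 (chartRel_one a h₂)) :
    Nonempty (Stack44Ext.Ext D F) := by
  let X := F.obj ⟨D.AV, D.pV⟩
  have hX : (BGc (FrB.GLn n S)).p.obj X = (QS h a).p.obj D.AV := F.w_obj ⟨D.AV, D.pV⟩
  let j : X.base ⟶ Sga84.sp h B :=
    eqToHom hX ≫ (QS h a).p.map D.j₀ ≫ eqToHom (congrArg (QS h a).p.obj eV)
  have hjo : IsOpenImmersion j.left := by
    haveI := hj
    haveI : IsIso (eqToHom hX).left := inferInstanceAs (IsIso ((Over.forget S).map (eqToHom hX)))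
    haveI : IsIso (eqToHom (congrArg (QS h a).p.obj eV)).left :=
      inferInstanceAs (IsIso ((Over.forget S).map (eqToHom (congrArg (QS h a).p.obj eV))))
    simp only [j, Over.comp_left]
    infer_instance
  have hid : ∀ {A : Type u} [CommRing A] [Algebra R A] (b : B →ₐ[R] A), ChartRel a (AlgHom.id R B) b b 1 :=
    fun b => chartRel_one a (AlgHom.ext fun _ => rfl)
  let k : ∀ {A : Type u} [CommRing A] [Algebra R A] (b : B →ₐ[R] A), chartR h a b ⟶ D.A₀ :=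
    fun b => cMap h a b 1 (hid b) ≫ eqToHom eV.symm
  obtain ⟨q₁, hq₁, -⟩ := D.fac₀ (k b₁) hb₁
  obtain ⟨q₂, hq₂, -⟩ := D.fac₀ (k b₂) hb₂
  let Fq₁ := F.map (⟨q₁⟩ : (⟨chartR h a b₁, hb₁⟩ : (AlgSt.fullSub (QS h a) P).obj) ⟶ ⟨D.AV, D.pV⟩)
  let Fq₂ := F.map (⟨q₂⟩ : (⟨chartR h a b₂, hb₂⟩ : (AlgSt.fullSub (QS h a) P).obj) ⟶ ⟨D.AV, D.pV⟩)
  have hbase : ∀ {A : Type u} [CommRing A] [Algebra R A] {b : B →ₐ[R] A} {hb : P (chartR h a b)}
      (q : chartR h a b ⟶ D.AV) (_ : q ≫ D.j₀ = k b) (e : trivObj (FrB.GLn n S) (Sga84.sp h A) ⟶ Fc F hb)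
      (_ : IsFrame F e),
      ((e ≫ F.map (⟨q⟩ : (⟨chartR h a b, hb⟩ : (AlgSt.fullSub (QS h a) P).obj) ⟶ ⟨D.AV, D.pV⟩)).base ≫ j).left =
        Spec.map (CommRingCat.ofHom b.toRingHom) := by
    intro A _ _ b hb q hq e he
    haveI := he
    let mq : (⟨chartR h a b, hb⟩ : (AlgSt.fullSub (QS h a) P).obj) ⟶ ⟨D.AV, D.pV⟩ := ⟨q⟩
    haveI hFq := Stack44Ext.isHomLift_map_sub F mq
    haveI : (BGc (FrB.GLn n S)).p.IsHomLift (𝟙 (Sga84.sp h A) ≫ (QS h a).p.map q) (e ≫ F.map mq) := inferInstance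
    have h1 : (e ≫ F.map mq).base = eqToHom (IsHomLift.domain_eq (BGc (FrB.GLn n S)).p
        (𝟙 (Sga84.sp h A) ≫ (QS h a).p.map q) (e ≫ F.map mq)) ≫ (𝟙 (Sga84.sp h A) ≫ (QS h a).p.map q) ≫ eqToHom hX.symm :=
      IsHomLift.fac' (BGc (FrB.GLn n S)).p (𝟙 (Sga84.sp h A) ≫ (QS h a).p.map q) (e ≫ F.map mq)
    have h2 : (QS h a).p.map q ≫ (QS h a).p.map D.j₀ ≫ eqToHom (congrArg (QS h a).p.obj eV) =
        (QS h a).p.map (cMap h a b 1 (hid b)) := by
      rw [← Category.assoc, ← Functor.map_comp, hq]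
      simp only [k, Functor.map_comp, eqToHom_map, Category.assoc, eqToHom_trans, eqToHom_refl, Category.comp_id]
    have h3 : (e ≫ F.map mq).base ≫ j = (QS h a).p.map (cMap h a b 1 (hid b)) := by
      rw [h1]
      simp only [j, Category.assoc, eqToHom_trans_assoc, eqToHom_refl, Category.id_comp, h2]
    refine (congrArg (fun t => t.left) h3).trans ?_
    exact congrArg (fun t => t.left) (cMap_base h a b 1 (hid b))
  have hn1 := hbase q₁ hq₁ e₁ he₁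
  have hn2 := hbase q₂ hq₂ e₂ he₂
  haveI : IsOpenImmersion ((e₁ ≫ Fq₁).base.left) := by
    haveI := hjo
    haveI : IsOpenImmersion ((e₁ ≫ Fq₁).base.left ≫ j.left) := by rw [← Over.comp_left, hn1]; infer_instance
    exact IsOpenImmersion.of_comp _ j.left
  haveI : IsOpenImmersion ((e₂ ≫ Fq₂).base.left) := by
    haveI := hjo
    haveI : IsOpenImmersion ((e₂ ≫ Fq₂).base.left ≫ j.left) := by rw [← Over.comp_left, hn2]; infer_instance
    exact IsOpenImmersion.of_comp _ j.left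
  haveI := hjo
  obtain ⟨e, he⟩ := exists_triv_of_cover X (W₁₂ := Sga84.sp h A₁₂) (e₁ ≫ Fq₁) (e₂ ≫ Fq₂) (Sga84.spMap h φ₁)
    (Sga84.spMap h φ₂) _ _ rfl rfl (by
      intro x
      have hx := hcov ((eqToHom hX).left x)
      have ej : ((QS h a).p.map D.j₀ ≫ eqToHom (congrArg (QS h a).p.obj eV) :
          (QS h a).p.obj D.AV ⟶ Sga84.sp h B).left ((eqToHom hX).left x) = j.left x := rfl
      rw [ej] at hx
      rcases hx with ⟨y, hy⟩ | ⟨y, hy⟩
      · exact Or.inl ⟨y, j.left.isOpenEmbedding.injective ((congrArg (fun t => t y) hn1).trans hy)⟩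
      · exact Or.inr ⟨y, j.left.isOpenEmbedding.injective ((congrArg (fun t => t y) hn2).trans hy)⟩) (by
      refine isPullback_of_comp_mono j.left ?_
      rw [← Over.comp_left, ← Over.comp_left, hn1, hn2]
      exact hsq) (by
      have s1 := res_spec F hBG e₁ he₁ φ₁ 1 (chartRel_one a h₁) (hb' := hb₁₂)
      have s2 := res_spec F hBG e₂ he₂ φ₂ 1 (chartRel_one a h₂) (hb' := hb₁₂)
      rw [← Category.assoc, ← s1, ← Category.assoc, ← s2, hagree, Category.assoc, Category.assoc]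
      congr 1
      refine (F.map_comp _ _).symm.trans (Eq.trans (congrArg F.map ?_) (F.map_comp _ _))
      refine ObjectProperty.hom_ext _ ?_
      change cMap h a φ₁ 1 (chartRel_one a h₁) ≫ q₁ = cMap h a φ₂ 1 (chartRel_one a h₂) ≫ q₂
      refine (D.fac₀ (k b₁₂) hb₁₂).unique ?_ ?_
      · rw [Category.assoc, hq₁]
        simp only [k]
        rw [← Category.assoc, cMap_comp]
        exact congrArg (· ≫ eqToHom eV.symm) (cMap_congr h a _ (hid b₁₂) h₁ (by simp))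
      · rw [Category.assoc, hq₂]
        simp only [k]
        rw [← Category.assoc, cMap_comp]
        exact congrArg (· ≫ eqToHom eV.symm) (cMap_congr h a _ (hid b₁₂) h₂ (by simp)))
  haveI hel : (BGc (FrB.GLn n S)).p.IsHomLift (𝟙 X.base) e :=
    IsHomLift.of_fac' _ _ _ rfl rfl (by simp; exact he)
  haveI := Fib44.isIso_of_fibGrpd (BGc (FrB.GLn n S)).p hBG (𝟙 X.base) e
  let jT : X.base ⟶ (QS h a).p.obj D.A₀ := eqToHom hX ≫ (QS h a).p.map D.j₀
  refine ⟨⟨trivObj (FrB.GLn n S) ((QS h a).p.obj D.A₀), inv e ≫ trivMap (FrB.GLn n S) jT, ?_⟩⟩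
  haveI := isHomLift_trivMap (FrB.GLn n S) jT
  haveI : (BGc (FrB.GLn n S)).p.IsHomLift (𝟙 X.base ≫ jT) (inv e ≫ trivMap (FrB.GLn n S) jT) := inferInstance
  refine IsHomLift.of_fac' _ _ _ hX rfl ?_
  rw [IsHomLift.fac' (BGc (FrB.GLn n S)).p (𝟙 X.base ≫ jT) (inv e ≫ trivMap (FrB.GLn n S) jT)]
  simp [jT]

end Groth.Agent.GL44
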