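import Groth.Agent.GL44.Points
import Groth.Agent.Sga84.TorsorAff
import Groth.Agent.CAlg8.WittDescent.Linear
import Groth.Agent.AlgSt88.QuotStackCover
import Groth.Agent.AlgSt88.QuotTorsor

/-!
Torsors under the general linear group are trivial over affine schemes on which finite projective modules
are free.
-/

set_option autoImplicit false
set_option maxHeartbeats 1000000
set_option linter.style.haveILetI false
set_option backward.isDefEq.respectTransparency false
set_option backward.isDefEq.respectTransparency.types false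
universe u

open CategoryTheory CategoryTheory.Limits MonoidalCategory CartesianMonoidalCategory AlgebraicGeometry AlgSt
open Groth.Agent.AlgSt88 Groth.Agent.Sga84 Groth.Agent.CAlg8
open scoped TensorProduct MonObj GrpObj Matrix

noncomputable section

namespace Groth.Agent.GL44

variable {n : ℕ}

section Cocycle

variable {R C : Type u} [CommRing R] [CommRing C] [Algebra R C]

theorem isDatum_one (M : Matrix (Fin n) (Fin n) (C ⊗[R] C)) (hM : IsUnit M.det)
    (hc : M.map (WittDescent.p23 R C) * M.map (WittDescent.p12 R C) = M.map (WittDescent.p13 R C)) :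
    WittDescent.LinDatum (1 : Matrix (Fin n) (Fin n) C) M where
  idem := _root_.one_mul 1
  src := by rw [Matrix.map_one _ (map_zero _) (map_one _), _root_.mul_one]
  tgt := by rw [Matrix.map_one _ (map_zero _) (map_one _), _root_.one_mul]
  cocycle := hc
  diag := by
    have h := congrArg (fun N : Matrix (Fin n) (Fin n) (C ⊗[R] (C ⊗[R] C)) =>
      (WittDescent.eps R C).toRingHom.mapMatrix N) hc
    simp only [map_mul, RingHom.mapMatrix_apply] at h
    have e23 : (M.map (WittDescent.p23 R C)).map (WittDescent.eps R C).toRingHom = M :=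
      Matrix.ext fun i j => WittDescent.eps_p23 R C _
    have e13 : (M.map (WittDescent.p13 R C)).map (WittDescent.eps R C).toRingHom = M :=
      Matrix.ext fun i j => WittDescent.eps_p13 R C _
    have e12 : (M.map (WittDescent.p12 R C)).map (WittDescent.eps R C).toRingHom =
        M.map ((WittDescent.q1 R C).toRingHom.comp (WittDescent.mu R C).toRingHom) :=
      Matrix.ext fun i j => WittDescent.eps_p12 R C _
    rw [e23, e13, e12] at h
    have h' : M.map ((WittDescent.q1 R C).toRingHom.comp (WittDescent.mu R C).toRingHom) = 1 :=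
      ((Matrix.isUnit_iff_isUnit_det _).2 hM).mul_eq_left.mp h
    have h2 := congrArg (fun N : Matrix (Fin n) (Fin n) (C ⊗[R] C) => (WittDescent.mu R C).toRingHom.mapMatrix N) h'
    simp only [map_one, RingHom.mapMatrix_apply] at h2
    rwa [WittDescent.map_map_comp _ _ (WittDescent.mu R C).toRingHom (fun a => WittDescent.mu_q1 R C _)] at h2

/-- An invertible cocycle is a coboundary as soon as finite projective modules over the base are free. -/
theorem exists_split [Nontrivial R] [Module.FaithfullyFlat R C]
    (hfree : ∀ (M : Type u) [AddCommGroup M] [Module R M], Module.Finite R M → Module.Projective R M → Module.Free R M)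
    (M : Matrix (Fin n) (Fin n) (C ⊗[R] C)) (hM : IsUnit M.det)
    (hc : M.map (WittDescent.p23 R C) * M.map (WittDescent.p12 R C) = M.map (WittDescent.p13 R C)) :
    ∃ B : Matrix (Fin n) (Fin n) C, IsUnit B.det ∧ M * B.map (WittDescent.q1 R C) = B.map (WittDescent.q2 R C) := by
  haveI : Nontrivial C := by
    obtain ⟨P, -⟩ := PrimeSpectrum.comap_surjective_of_faithfullyFlat (B := C) (Classical.arbitrary (PrimeSpectrum R))
    exact P.nontrivial
  have H := isDatum_one M hM hc
  obtain ⟨hfin, hproj⟩ := WittDescent.invariants_finite_projective H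
  have hf := hfree _ hfin hproj
  let b := Module.Free.chooseBasis R (WittDescent.invariants 1 M)
  have hbij : Function.Bijective (WittDescent.canMap 1 M) := by
    refine ⟨WittDescent.canMap_injective 1 M, fun v => ?_⟩
    have hv : v ∈ LinearMap.range (WittDescent.canMap 1 M) := by
      rw [WittDescent.range_canMap H]
      exact ⟨v, by simp⟩
    exact hv
  let bC : Module.Basis _ C (Fin n → C) := (b.baseChange C).map (LinearEquiv.ofBijective _ hbij)
  let e : Fin n ≃ Module.Free.ChooseBasisIndex R (WittDescent.invariants 1 M) :=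
    (Pi.basisFun C (Fin n)).indexEquiv bC
  let bC' : Module.Basis (Fin n) C (Fin n → C) := bC.reindex e.symm
  have hcol : ∀ l, bC' l = (b (e l) : Fin n → C) := fun l => by
    simp only [bC', bC, Module.Basis.reindex_apply, Equiv.symm_symm, Module.Basis.map_apply,
      Algebra.TensorProduct.basis_apply, LinearEquiv.ofBijective_apply]
    simp [WittDescent.canMap]
  refine ⟨(Pi.basisFun C (Fin n)).toMatrix bC', ?_, ?_⟩
  · rw [← Matrix.isUnit_iff_isUnit_det]
    exact (Matrix.isUnit_iff_isUnit_det _).2 (by
      haveI := (Pi.basisFun C (Fin n)).invertibleToMatrix bC'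
      exact Matrix.isUnit_det_of_invertible _)
  · ext i l
    have h := congrFun ((WittDescent.mem_invariants).1 (b (e l)).2).1 i
    simp only [Matrix.mulVec, dotProduct, Function.comp_apply] at h
    simp only [Matrix.mul_apply, Matrix.map_apply, Module.Basis.toMatrix_apply, Pi.basisFun_repr, hcol]
    exact h

end Cocycle

variable {S : Scheme.{u}}

/-- Points over a faithfully flat algebra with equal pullbacks descend, with the factorisation. -/
theorem exists_descend_fac {R C : Type u} [CommRing R] [CommRing C] [Algebra R C] [Module.FaithfullyFlat R C]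
    (j : Spec (CommRingCat.of R) ⟶ S) {X : Over S} (t : Sga84.sp j C ⟶ X)
    (ht : spMap j (Algebra.TensorProduct.includeLeft : C →ₐ[R] C ⊗[R] C) ≫ t =
      spMap j (Algebra.TensorProduct.includeRight : C →ₐ[R] C ⊗[R] C) ≫ t) :
    ∃ y : Spec (CommRingCat.of R) ⟶ X.left, y ≫ X.hom = j ∧
      Spec.map (CommRingCat.ofHom (algebraMap R C)) ≫ y = t.left := by
  let w := Spec.map (CommRingCat.ofHom (algebraMap R C))
  obtain ⟨hw1, hw2⟩ : Flat w ∧ Surjective w := (flat_and_surjective_SpecMap_iff _).mpr
    (RingHom.faithfullyFlat_algebraMap_iff.mpr ‹_›)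
  have key : ∀ {Z : Scheme.{u}} (g₁ g₂ : Z ⟶ Spec (CommRingCat.of C)),
      g₁ ≫ w = g₂ ≫ w → g₁ ≫ t.left = g₂ ≫ t.left := by
    intro Z g₁ g₂ h
    have e1 : (pullbackSpecIso R C C).inv ≫ pullback.fst _ _ ≫ t.left =
        (pullbackSpecIso R C C).inv ≫ pullback.snd _ _ ≫ t.left := by
      rw [pullbackSpecIso_inv_fst_assoc, pullbackSpecIso_inv_snd_assoc]
      exact congrArg CommaMorphism.left ht
    rw [cancel_epi] at e1
    have := pullback.lift g₁ g₂ h ≫= e1
    rwa [pullback.lift_fst_assoc, pullback.lift_snd_assoc] at this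
  refine ⟨EffectiveEpi.desc w t.left key, ?_, EffectiveEpi.fac _ _ _⟩
  rw [← cancel_epi w, EffectiveEpi.fac_assoc]
  exact Over.w t

/-- A torsor under the general linear group on an affine base has a section as soon as finite projective
modules over the ring are free. -/
theorem exists_section (hG : IsAffineHom (FrB.GLn n S).hom) [Flat (FrB.GLn n S).hom]
    [LocallyOfFinitePresentation (FrB.GLn n S).hom] {X : Over S} {a : AlgGrp.Action (FrB.GLn n S) X}
    (A : QuotObj Scheme.fppfPrecoverage (FrB.GLn n S) a) {R : Type u} [CommRing R] [Nontrivial R]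
    (i : Spec (CommRingCat.of R) ≅ A.base.left)
    (hfree : ∀ (M : Type u) [AddCommGroup M] [Module R M], Module.Finite R M → Module.Projective R M → Module.Free R M) :
    ∃ σ : A.base ⟶ A.P, σ ≫ A.π = 𝟙 A.base := by
  let j : Spec (CommRingCat.of R) ⟶ S := i.hom ≫ A.base.hom
  haveI := isAffineHom_π Scheme.fppfPrecoverage_le_fpqcPrecoverage hG A
  haveI : IsAffine A.base.left := .of_isIso i.inv
  haveI : IsAffine A.P.left := isAffine_of_isAffineHom A.π.left
  haveI := flat_π ‹_› A
  haveI := surjective_π A
  let C := Γ(A.P.left, ⊤)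
  let φ : CommRingCat.of R ⟶ C := Spec.preimage (A.P.left.isoSpec.inv ≫ A.π.left ≫ i.inv)
  have hφ : Spec.map φ = A.P.left.isoSpec.inv ≫ A.π.left ≫ i.inv := Spec.map_preimage _
  letI : Algebra R C := φ.hom.toAlgebra
  haveI : Module.FaithfullyFlat R C := by
    refine RingHom.faithfullyFlat_algebraMap_iff.mp ?_
    have h1 : Flat (Spec.map φ) := by rw [hφ]; infer_instance
    have h2 : Surjective (Spec.map φ) := by rw [hφ]; infer_instance
    exact (flat_and_surjective_SpecMap_iff _).mp ⟨h1, h2⟩
  -- the base and the tautological point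
  let W : Over S := Over.mk j
  let v : A.base ⟶ W := Over.homMk i.inv (by simp [W, j])
  let v' : W ⟶ A.base := Over.homMk i.hom rfl
  have hsp : Spec.map (CommRingCat.ofHom (algebraMap R C)) ≫ j = A.P.left.isoSpec.inv ≫ A.P.hom := by
    change Spec.map φ ≫ i.hom ≫ A.base.hom = _
    rw [hφ, ← Over.w A.π]
    simp
  let s : Sga84.sp j C ⟶ A.P := Over.homMk A.P.left.isoSpec.inv hsp.symm
  let str : ∀ (D : Type u) [CommRing D] [Algebra R D], Sga84.sp j D ⟶ A.base := fun D _ _ =>
    Over.homMk (Spec.map (CommRingCat.ofHom (algebraMap R D)) ≫ i.hom) (by simp [j])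
  have hstr : ∀ {D D' : Type u} [CommRing D] [CommRing D'] [Algebra R D] [Algebra R D'] (f : D →ₐ[R] D'),
      spMap j f ≫ str D = str D' := by
    intro D D' _ _ _ _ f
    refine Over.OverMorphism.ext ?_
    change Spec.map _ ≫ Spec.map _ ≫ i.hom = Spec.map _ ≫ i.hom
    rw [← Category.assoc, ← Spec.map_comp, ← CommRingCat.ofHom_comp]
    congr 3
    exact f.comp_algebraMap
  have hs : s ≫ A.π = str C := by
    refine Over.OverMorphism.ext ?_
    change A.P.left.isoSpec.inv ≫ A.π.left = Spec.map φ ≫ i.hom
    rw [hφ]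
    simp
  have hact : ∀ {T : Over S} (x y : T ⟶ A.P), x ≫ A.π = y ≫ A.π →
      ∃! g : T ⟶ FrB.GLn n S, actPt A.act g x = y := by
    intro T x y e
    refine ⟨A.cart.lift y x e.symm ≫ fst _ _, ?_, fun g hg => ?_⟩
    · change lift (A.cart.lift y x e.symm ≫ fst _ _) x ≫ A.act.act = y
      have hx : A.cart.lift y x e.symm ≫ snd _ _ = x := A.cart.lift_snd _ _ _
      have hl : lift (A.cart.lift y x e.symm ≫ fst _ _) x = A.cart.lift y x e.symm :=
        CartesianMonoidalCategory.hom_ext _ _ (lift_fst _ _) ((lift_snd _ _).trans hx.symm)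
      rw [hl]
      exact A.cart.lift_fst _ _ _
    · have hg' : lift g x = A.cart.lift y x e.symm := by
        apply A.cart.hom_ext
        · rw [A.cart.lift_fst]; exact hg
        · rw [A.cart.lift_snd]; exact lift_snd g x
      rw [← hg', lift_fst]
  have hπ : ∀ {T : Over S} (g : T ⟶ FrB.GLn n S) (x : T ⟶ A.P), actPt A.act g x ≫ A.π = x ≫ A.π := by
    intro T g x
    change (lift g x ≫ A.act.act) ≫ A.π = _
    rw [Category.assoc, A.cart.w, lift_snd_assoc]
  -- the cocycle
  obtain ⟨g, hg, -⟩ := hact (spMap j (WittDescent.q1 R C) ≫ s) (spMap j (WittDescent.q2 R C) ≫ s) (by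
    rw [Category.assoc, Category.assoc, hs, hstr, hstr])
  have hcoc : spMap j (WittDescent.p13 R C) ≫ g =
      (spMap j (WittDescent.p23 R C) ≫ g) * (spMap j (WittDescent.p12 R C) ≫ g) := by
    have e (m : C ⊗[R] C →ₐ[R] C ⊗[R] (C ⊗[R] C)) :
        actPt A.act (spMap j m ≫ g) (spMap j (m.comp (WittDescent.q1 R C)) ≫ s) =
          spMap j (m.comp (WittDescent.q2 R C)) ≫ s := by
      have := congrArg (spMap j m ≫ ·) hg
      simp only [comp_actPt] at this
      rwa [← Category.assoc (spMap j m), spMap_comp, ← Category.assoc (spMap j m), spMap_comp] at this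
    have a1 : (WittDescent.p13 R C).comp (WittDescent.q1 R C) = (WittDescent.p12 R C).comp (WittDescent.q1 R C) :=
      AlgHom.ext fun x => (WittDescent.p12_q1 R C x).symm
    have b13 : (WittDescent.p13 R C).comp (WittDescent.q2 R C) = (WittDescent.p23 R C).comp (WittDescent.q2 R C) :=
      AlgHom.ext fun x => WittDescent.p13_q2 R C x
    have b12 : (WittDescent.p12 R C).comp (WittDescent.q2 R C) = (WittDescent.p23 R C).comp (WittDescent.q1 R C) :=
      AlgHom.ext fun x => WittDescent.p12_q2 R C x
    have h13 := e (WittDescent.p13 R C)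
    rw [a1, b13] at h13
    refine (hact _ _ ?_).unique h13 ?_
    · rw [Category.assoc, Category.assoc, hs, hstr, hstr]
    · have h12 := e (WittDescent.p12 R C)
      rw [b12] at h12
      rw [actPt_mul, h12]
      exact e (WittDescent.p23 R C)
  have hd := congrArg coMat hcoc
  rw [coMat_mul, coMat_comp _ _ rfl, coMat_comp _ _ rfl, coMat_comp _ _ rfl] at hd
  obtain ⟨B, hB, hMB⟩ := exists_split hfree (coMat g) (coMat_isUnit g) hd.symm
  obtain ⟨hb, hhb⟩ := coMat_surjective (n := n) (k := Spec.map (CommRingCat.ofHom (algebraMap R C)) ≫ j) B⁻¹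
    ((Matrix.isUnit_nonsing_inv_det_iff).2 hB)
  let t : Sga84.sp j C ⟶ A.P := actPt A.act hb s
  have ht : spMap j (WittDescent.q1 R C) ≫ t = spMap j (WittDescent.q2 R C) ≫ t := by
    rw [comp_actPt, comp_actPt, ← hg, ← actPt_mul]
    congr 1
    apply coMat_injective
    rw [coMat_mul, coMat_comp _ _ rfl, coMat_comp _ _ rfl, hhb]
    have e1 : B.map (WittDescent.q1 R C) * B⁻¹.map (WittDescent.q1 R C) = 1 := by
      rw [← Matrix.map_mul, Matrix.mul_nonsing_inv _ hB, Matrix.map_one _ (map_zero _) (map_one _)]
    have e2 : B⁻¹.map (WittDescent.q2 R C) * B.map (WittDescent.q2 R C) = 1 := by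
      rw [← Matrix.map_mul, Matrix.nonsing_inv_mul _ hB, Matrix.map_one _ (map_zero _) (map_one _)]
    change B⁻¹.map (WittDescent.q1 R C) = B⁻¹.map (WittDescent.q2 R C) * coMat g
    calc B⁻¹.map (WittDescent.q1 R C)
        = B⁻¹.map (WittDescent.q2 R C) * B.map (WittDescent.q2 R C) * B⁻¹.map (WittDescent.q1 R C) := by
          rw [e2, _root_.one_mul]
      _ = B⁻¹.map (WittDescent.q2 R C) * coMat g *
            (B.map (WittDescent.q1 R C) * B⁻¹.map (WittDescent.q1 R C)) := by
          rw [← hMB]; simp only [Matrix.mul_assoc]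
      _ = _ := by rw [e1, _root_.mul_one]
  obtain ⟨y, hy, hfac⟩ := exists_descend_fac j t ht
  let σW : W ⟶ A.P := Over.homMk y hy
  obtain ⟨hw1, hw2⟩ : Flat (Spec.map (CommRingCat.ofHom (algebraMap R C))) ∧
      Surjective (Spec.map (CommRingCat.ofHom (algebraMap R C))) :=
    (flat_and_surjective_SpecMap_iff _).mpr (RingHom.faithfullyFlat_algebraMap_iff.mpr ‹_›)
  have hw : σW ≫ A.π = v' := by
    refine Over.OverMorphism.ext ?_
    rw [← cancel_epi (Spec.map (CommRingCat.ofHom (algebraMap R C)))]
    change Spec.map _ ≫ y ≫ A.π.left = Spec.map _ ≫ i.hom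
    rw [← Category.assoc, hfac]
    exact (congrArg (fun m => m.left) ((hπ hb s).trans hs))
  refine ⟨v ≫ σW, ?_⟩
  rw [Category.assoc, hw]
  exact Over.OverMorphism.ext i.inv_hom_id

end Groth.Agent.GL44
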