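import Groth.Agent.BGaST.Triv

/-!
Trivialisations of a torsor glue along two opens.
-/

set_option autoImplicit false
set_option maxHeartbeats 1000000
set_option linter.style.haveILetI false
set_option linter.unusedSectionVars false
set_option backward.isDefEq.respectTransparency false
set_option backward.isDefEq.respectTransparency.types false
universe u

open CategoryTheory CategoryTheory.Limits MonoidalCategory CartesianMonoidalCategory AlgebraicGeometry AlgSt
open Groth.Agent.AlgSt88 Groth.Agent.BGaST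
open scoped MonObj GrpObj

noncomputable section

namespace Groth.Agent.GL44

variable {S : Scheme.{u}} {G : Over S} [GrpObj G]

/-- A section of a torsor gives a trivialisation. -/
theorem exists_triv_hom {T : Over S} (X : (BGc G).obj) (σ : T ⟶ X.P) :
    ∃ n : trivObj G T ⟶ X, n.base = σ ≫ X.π := by
  have key : ∀ y : T ⟶ 𝟙_ (Over S),
      (∃ n : (quotMap Scheme.fppfPrecoverage G (trivAction G)).obj ⟨T, ⟨y⟩⟩ ⟶ X, n.base = σ ≫ X.π) →
        ∃ n : trivObj G T ⟶ X, n.base = σ ≫ X.π := by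
    intro y hy
    obtain rfl : y = toUnit T := toUnit_unique _ _
    exact hy
  exact key _ ⟨pointHom X σ, rfl⟩

/-- The section of a trivialisation. -/
abbrev secOf {T : Over S} {X : (BGc G).obj} (n : trivObj G T ⟶ X) : T ⟶ X.P :=
  lift (1 : T ⟶ G) (𝟙 T) ≫ (n.top : G ⊗ T ⟶ X.P)

theorem secOf_π {T : Over S} {X : (BGc G).obj} (n : trivObj G T ⟶ X) : secOf n ≫ X.π = n.base := by
  have e : (n.top : G ⊗ T ⟶ X.P) ≫ X.π = snd G T ≫ n.base := n.cart.w
  rw [secOf, Category.assoc, e, lift_snd_assoc]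
  exact Category.id_comp _

theorem trivMap_secOf {T' T : Over S} {X : (BGc G).obj} (f : T' ⟶ T) (n : trivObj G T ⟶ X) :
    secOf (trivMap G f ≫ n) = f ≫ secOf n := by
  change lift (1 : T' ⟶ G) (𝟙 T') ≫ (G ◁ f) ≫ n.top = f ≫ lift (1 : T ⟶ G) (𝟙 T) ≫ n.top
  rw [← Category.assoc, ← Category.assoc, lift_whiskerLeft, comp_lift, Category.id_comp, Category.comp_id,
    MonObj.comp_one]

/-- Two compatible trivialisations on a cover by two opens glue. -/
theorem exists_triv_of_cover (X : (BGc G).obj) {W₁ W₂ W₁₂ : Over S} (n₁ : trivObj G W₁ ⟶ X)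
    (n₂ : trivObj G W₂ ⟶ X) (f₁ : W₁₂ ⟶ W₁) (f₂ : W₁₂ ⟶ W₂) (b₁ : W₁ ⟶ X.base) (b₂ : W₂ ⟶ X.base)
    (e₁ : n₁.base = b₁) (e₂ : n₂.base = b₂) [IsOpenImmersion b₁.left] [IsOpenImmersion b₂.left]
    (hcov : ∀ x, x ∈ Set.range b₁.left ∨ x ∈ Set.range b₂.left)
    (hsq : IsPullback f₁.left f₂.left b₁.left b₂.left)
    (hagree : trivMap G f₁ ≫ n₁ = trivMap G f₂ ≫ n₂) :
    ∃ n : trivObj G X.base ⟶ X, n.base = 𝟙 X.base := by
  let Wb : Bool → Over S := fun i => bif i then W₁ else W₂
  let bb : ∀ i, (Wb i).left ⟶ X.base.left := fun i => match i with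
    | true => b₁.left
    | false => b₂.left
  let sb : ∀ i, (Wb i).left ⟶ X.P.left := fun i => match i with
    | true => (secOf n₁).left
    | false => (secOf n₂).left
  have hπb : ∀ i, sb i ≫ X.π.left = bb i := fun i => by
    cases i
    · exact congrArg (fun t => t.left) ((secOf_π n₂).trans e₂)
    · exact congrArg (fun t => t.left) ((secOf_π n₁).trans e₁)
  haveI : ∀ i, IsOpenImmersion (bb i) := fun i => by cases i <;> assumption
  let 𝒰 : X.base.left.OpenCover := Scheme.Cover.mkOfCovers Bool (fun i => (Wb i).left) bb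
    (fun x => (hcov x).elim (fun ⟨y, hy⟩ => ⟨true, y, hy⟩) (fun ⟨y, hy⟩ => ⟨false, y, hy⟩)) (fun i => inferInstance)
  have hag : f₁.left ≫ (secOf n₁).left = f₂.left ≫ (secOf n₂).left :=
    congrArg (fun t => t.left) (((trivMap_secOf f₁ n₁).symm.trans (congrArg secOf hagree)).trans (trivMap_secOf f₂ n₂))
  have hcompat : ∀ i j, pullback.fst (bb i) (bb j) ≫ sb i = pullback.snd (bb i) (bb j) ≫ sb j := by
    intro i j
    cases i <;> cases j
    · rw [fst_eq_snd_of_mono_eq (bb false)]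
    · change pullback.fst b₂.left b₁.left ≫ (secOf n₂).left = pullback.snd b₂.left b₁.left ≫ (secOf n₁).left
      rw [← hsq.flip.isoPullback_inv_fst, ← hsq.flip.isoPullback_inv_snd, Category.assoc, Category.assoc, hag]
    · change pullback.fst b₁.left b₂.left ≫ (secOf n₁).left = pullback.snd b₁.left b₂.left ≫ (secOf n₂).left
      rw [← hsq.isoPullback_inv_fst, ← hsq.isoPullback_inv_snd, Category.assoc, Category.assoc, hag]
    · rw [fst_eq_snd_of_mono_eq (bb true)]
  let σ₀ : X.base.left ⟶ X.P.left := 𝒰.glueMorphisms sb hcompat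
  have hσ₀ : σ₀ ≫ X.π.left = 𝟙 _ := 𝒰.hom_ext _ _ fun i => by
    rw [← Category.assoc]
    erw [Scheme.Cover.ι_glueMorphisms]
    exact (hπb i).trans (Category.comp_id _).symm
  let σ : X.base ⟶ X.P := Over.homMk σ₀ (by rw [← Over.w X.π, reassoc_of% hσ₀])
  obtain ⟨n, hn⟩ := exists_triv_hom X σ
  exact ⟨n, hn.trans (Over.OverMorphism.ext hσ₀)⟩

end Groth.Agent.GL44
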