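import Groth.Agent.GL44.Chart
import Groth.Agent.GL44.Triv
import Groth.Agent.GL44.TwoCover

/-!
Frames of a functor to the classifying category of the general linear group on the charts of a quotient.
-/

set_option autoImplicit false
set_option maxHeartbeats 1000000
set_option linter.style.haveILetI false
set_option linter.unusedSectionVars false
set_option backward.isDefEq.respectTransparency false
set_option backward.isDefEq.respectTransparency.types false
universe u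

open CategoryTheory CategoryTheory.Limits MonoidalCategory CartesianMonoidalCategory AlgebraicGeometry AlgSt FibCat
open Groth.Agent.AlgSt88 Groth.Agent.BGaST
open scoped TensorProduct MonObj GrpObj

noncomputable section

namespace Groth.Agent.GL44

variable {S : Scheme.{u}} {n : ℕ}

theorem exists_frame_obj (hG : IsAffineHom (FrB.GLn n S).hom) [Flat (FrB.GLn n S).hom]
    [LocallyOfFinitePresentation (FrB.GLn n S).hom] (X : (BGc (FrB.GLn n S)).obj) (W : Over S)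
    (hX : (BGc (FrB.GLn n S)).p.obj X = W) {R' : Type u} [CommRing R'] [Nontrivial R']
    (i : Spec (CommRingCat.of R') ≅ W.left)
    (hfree : ∀ (M : Type u) [AddCommGroup M] [Module R' M], Module.Finite R' M → Module.Projective R' M → Module.Free R' M) :
    ∃ e : trivObj (FrB.GLn n S) W ⟶ X, (BGc (FrB.GLn n S)).p.IsHomLift (𝟙 W) e := by
  subst hX
  obtain ⟨σ, hσ⟩ := exists_section hG X i hfree
  obtain ⟨e, he⟩ := exists_triv_hom X σ
  refine ⟨e, IsHomLift.of_fac' _ _ _ rfl rfl ?_⟩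
  simp only [eqToHom_refl, Category.id_comp, Category.comp_id]
  exact he.trans hσ

theorem frame_diff (hBG : IsFibGrpd (BGc (FrB.GLn n S)).p) {X : (BGc (FrB.GLn n S)).obj} {W : Over S}
    (e e' : trivObj (FrB.GLn n S) W ⟶ X) (he : (BGc (FrB.GLn n S)).p.IsHomLift (𝟙 W) e)
    (he' : (BGc (FrB.GLn n S)).p.IsHomLift (𝟙 W) e') : ∃ g : W ⟶ FrB.GLn n S, e' = tr g ≫ e := by
  refine exists_tr_comp hBG e' e ?_
  exact (IsHomLift.fac' (BGc (FrB.GLn n S)).p (𝟙 W) e').trans (IsHomLift.fac' (BGc (FrB.GLn n S)).p (𝟙 W) e).symm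

theorem frame_cancel (hBG : IsFibGrpd (BGc (FrB.GLn n S)).p) {X : (BGc (FrB.GLn n S)).obj} {W : Over S}
    (e : trivObj (FrB.GLn n S) W ⟶ X) {g g' : W ⟶ FrB.GLn n S} (h : tr g ≫ e = tr g' ≫ e) : g = g' :=
  tr_cancel hBG e h

variable {R : Type u} [CommRing R] {B : Type u} [CommRing B] [Algebra R B]
  {h : Spec (CommRingCat.of R) ⟶ S} {a : AlgGrp.Action (ThetaS.Gm R) (CoactBr.sp R B)}
  {P : (QS h a).obj → Prop} (F : AlgSt.fullSub (QS h a) P ⥤ᵇ BGc (FrB.GLn n S))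

/-- The value of the functor at a chart. -/
abbrev Fc {A : Type u} [CommRing A] [Algebra R A] {b : B →ₐ[R] A} (hb : P (chartR h a b)) :
    (BGc (FrB.GLn n S)).obj := F.obj ⟨chartR h a b, hb⟩

/-- A frame at a chart. -/
abbrev IsFrame {A : Type u} [CommRing A] [Algebra R A] {b : B →ₐ[R] A} {hb : P (chartR h a b)}
    (e : trivObj (FrB.GLn n S) (Sga84.sp h A) ⟶ Fc F hb) : Prop :=
  (BGc (FrB.GLn n S)).p.IsHomLift (𝟙 (Sga84.sp h A)) e

variable {A A' A'' : Type u} [CommRing A] [CommRing A'] [CommRing A''] [Algebra R A] [Algebra R A'] [Algebra R A'']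
  {b : B →ₐ[R] A} {b' : B →ₐ[R] A'} {b'' : B →ₐ[R] A''} {hb : P (chartR h a b)} {hb' : P (chartR h a b')}
  {hb'' : P (chartR h a b'')}

theorem exists_frame (hG : IsAffineHom (FrB.GLn n S).hom) [Flat (FrB.GLn n S).hom]
    [LocallyOfFinitePresentation (FrB.GLn n S).hom] (hb : P (chartR h a b)) [Nontrivial A]
    (hfree : ∀ (M : Type u) [AddCommGroup M] [Module A M], Module.Finite A M → Module.Projective A M → Module.Free A M) :
    ∃ e : trivObj (FrB.GLn n S) (Sga84.sp h A) ⟶ Fc F hb, IsFrame F e :=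
  exists_frame_obj hG _ (Sga84.sp h A) (F.w_obj ⟨chartR h a b, hb⟩) (Iso.refl _) hfree

/-- The value of the functor at a morphism of charts. -/
abbrev Fm (φ : A →ₐ[R] A') (v : A'ˣ) (e : ChartRel a b b' φ v) : Fc F hb' ⟶ Fc F hb :=
  F.map (⟨cMap h a φ v e⟩ : (⟨chartR h a b', hb'⟩ : (AlgSt.fullSub (QS h a) P).obj) ⟶ ⟨chartR h a b, hb⟩)

theorem isHomLift_Fm (φ : A →ₐ[R] A') (v : A'ˣ) (e : ChartRel a b b' φ v) :
    (BGc (FrB.GLn n S)).p.IsHomLift (Sga84.spMap h φ) (Fm F φ v e (hb := hb) (hb' := hb')) := by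
  haveI := isHomLift_cMap h a φ v e
  have : (AlgSt.fullSub (QS h a) P).p.IsHomLift (Sga84.spMap h φ)
      (⟨cMap h a φ v e⟩ : (⟨chartR h a b', hb'⟩ : (AlgSt.fullSub (QS h a) P).obj) ⟶ ⟨chartR h a b, hb⟩) :=
    IsHomLift.of_fac' _ _ _ rfl rfl (IsHomLift.fac' (QS h a).p (Sga84.spMap h φ) (cMap h a φ v e))
  exact BasedFunctor.preserves_isHomLift F (Sga84.spMap h φ) _

variable (hBG : IsFibGrpd (BGc (FrB.GLn n S)).p)
include hBG

/-- The pullback of a frame. -/
theorem exists_res (e : trivObj (FrB.GLn n S) (Sga84.sp h A) ⟶ Fc F hb) (he : IsFrame F e)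
    (φ : A →ₐ[R] A') (v : A'ˣ) (r : ChartRel a b b' φ v) :
    ∃ e' : trivObj (FrB.GLn n S) (Sga84.sp h A') ⟶ Fc F hb',
      (IsFrame F e' ∧ e' ≫ Fm F φ v r = trivMap (FrB.GLn n S) (Sga84.spMap h φ) ≫ e) ∧
      ∀ e'', IsFrame F e'' → e'' ≫ Fm F φ v r = trivMap (FrB.GLn n S) (Sga84.spMap h φ) ≫ e → e'' = e' := by
  haveI := he
  haveI := isHomLift_trivMap (FrB.GLn n S) (Sga84.spMap h φ)
  exact IsoNat97.exists_fac hBG (𝟙 _) (Category.id_comp _) (Fm F φ v r) (isHomLift_Fm F φ v r)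
    (trivMap (FrB.GLn n S) (Sga84.spMap h φ) ≫ e) (IsHomLift.comp_lift_id_right _ _ _ _)

/-- The pullback of a frame. -/
def res (e : trivObj (FrB.GLn n S) (Sga84.sp h A) ⟶ Fc F hb) (he : IsFrame F e) (φ : A →ₐ[R] A') (v : A'ˣ)
    (r : ChartRel a b b' φ v) : trivObj (FrB.GLn n S) (Sga84.sp h A') ⟶ Fc F hb' :=
  (exists_res F hBG e he φ v r).choose

theorem isFrame_res (e : trivObj (FrB.GLn n S) (Sga84.sp h A) ⟶ Fc F hb) (he : IsFrame F e) (φ : A →ₐ[R] A')
    (v : A'ˣ) (r : ChartRel a b b' φ v) : IsFrame F (res F hBG e he φ v r (hb' := hb')) :=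
  (exists_res F hBG e he φ v r).choose_spec.1.1

theorem res_spec (e : trivObj (FrB.GLn n S) (Sga84.sp h A) ⟶ Fc F hb) (he : IsFrame F e) (φ : A →ₐ[R] A')
    (v : A'ˣ) (r : ChartRel a b b' φ v) :
    res F hBG e he φ v r (hb' := hb') ≫ Fm F φ v r = trivMap (FrB.GLn n S) (Sga84.spMap h φ) ≫ e :=
  (exists_res F hBG e he φ v r).choose_spec.1.2

theorem res_eq (e : trivObj (FrB.GLn n S) (Sga84.sp h A) ⟶ Fc F hb) (he : IsFrame F e) (φ : A →ₐ[R] A')
    (v : A'ˣ) (r : ChartRel a b b' φ v) (e' : trivObj (FrB.GLn n S) (Sga84.sp h A') ⟶ Fc F hb')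
    (he' : IsFrame F e') (hh : e' ≫ Fm F φ v r = trivMap (FrB.GLn n S) (Sga84.spMap h φ) ≫ e) :
    e' = res F hBG e he φ v r :=
  (exists_res F hBG e he φ v r).choose_spec.2 e' he' hh

omit hBG in
theorem isFrame_tr (g : Sga84.sp h A ⟶ FrB.GLn n S) (e : trivObj (FrB.GLn n S) (Sga84.sp h A) ⟶ Fc F hb)
    (he : IsFrame F e) : IsFrame F (tr g ≫ e) := by
  haveI := he
  haveI := isHomLift_tr g
  exact IsHomLift.comp_lift_id_left _ _ _ _

theorem res_tr (g : Sga84.sp h A ⟶ FrB.GLn n S) (e : trivObj (FrB.GLn n S) (Sga84.sp h A) ⟶ Fc F hb)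
    (he : IsFrame F e) (φ : A →ₐ[R] A') (v : A'ˣ) (r : ChartRel a b b' φ v) :
    res F hBG (tr g ≫ e) (isFrame_tr F g e he) φ v r (hb' := hb') = tr (Sga84.spMap h φ ≫ g) ≫ res F hBG e he φ v r := by
  refine (res_eq F hBG _ (isFrame_tr F g e he) φ v r _ (isFrame_tr F _ _ (isFrame_res F hBG e he φ v r)) ?_).symm
  rw [Category.assoc, res_spec, ← Category.assoc, ← trivMap_tr, Category.assoc]

theorem res_res (e : trivObj (FrB.GLn n S) (Sga84.sp h A) ⟶ Fc F hb) (he : IsFrame F e) (φ : A →ₐ[R] A')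
    (v : A'ˣ) (r : ChartRel a b b' φ v) (φ' : A' →ₐ[R] A'') (v' : A''ˣ) (r' : ChartRel a b' b'' φ' v')
    (ψ : A →ₐ[R] A'') (w : A''ˣ) (r'' : ChartRel a b b'' ψ w) (hψ : φ'.comp φ = ψ)
    (hw : v' * Units.map φ'.toRingHom.toMonoidHom v = w) :
    res F hBG (res F hBG e he φ v r (hb' := hb')) (isFrame_res F hBG e he φ v r) φ' v' r' (hb' := hb'') =
      res F hBG e he ψ w r'' := by
  subst hψ
  refine res_eq F hBG e he _ w r'' _ (isFrame_res F hBG _ _ φ' v' r') ?_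
  have e1 : Fm F φ' v' r' (hb := hb') (hb' := hb'') ≫ Fm F φ v r (hb := hb) = Fm F (φ'.comp φ) w r'' := by
    refine (F.map_comp _ _).symm.trans (congrArg F.map ?_)
    exact ObjectProperty.hom_ext _ ((cMap_comp h a r r').trans (cMap_congr h a _ r'' rfl hw))
  rw [← e1, ← Category.assoc, res_spec, Category.assoc, res_spec, ← Category.assoc, ← trivMap_comp, Sga84.spMap_comp]

theorem res_congr (e e' : trivObj (FrB.GLn n S) (Sga84.sp h A) ⟶ Fc F hb) (he : IsFrame F e) (he' : IsFrame F e')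
    (hee : e = e') (φ φ' : A →ₐ[R] A') (v v' : A'ˣ) (r : ChartRel a b b' φ v) (r' : ChartRel a b b' φ' v')
    (hφ : φ = φ') (hv : v = v') :
    res F hBG e he φ v r (hb' := hb') = res F hBG e' he' φ' v' r' := by
  subst hee hφ hv
  rfl

end Groth.Agent.GL44
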