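import Mathlib.LinearAlgebra.FreeModule.PID
import Mathlib.LinearAlgebra.Matrix.Basis
import Mathlib.LinearAlgebra.Matrix.ToLinearEquiv
import Mathlib.RingTheory.Localization.Integer
import Mathlib.RingTheory.DiscreteValuationRing.Basic

/-!
Invertible matrices over the fraction field of a discrete valuation ring are diagonal up to integral factors.
-/

set_option autoImplicit false
set_option linter.style.haveILetI false
universe u

open scoped Matrix

namespace Groth.Agent.GL44

variable {R : Type u} [CommRing R] [IsDomain R] [IsDiscreteValuationRing R] {n : ℕ}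

theorem exists_smith_nat {π : R} (hπ : Irreducible π) (g : Matrix (Fin n) (Fin n) R) (hg : g.det ≠ 0) :
    ∃ (a b : Matrix (Fin n) (Fin n) R) (w : Fin n → ℕ), IsUnit a.det ∧ IsUnit b.det ∧
      g = a * Matrix.diagonal (fun k => π ^ w k) * b := by
  classical
  let N : Submodule R (Fin n → R) := LinearMap.range g.vecMulLinear
  have hinj : Function.Injective g.vecMulLinear := by
    rw [← LinearMap.ker_eq_bot, LinearMap.ker_eq_bot']
    exact fun v hv => Matrix.eq_zero_of_vecMul_eq_zero hg hv
  have hrk : Module.finrank R N = Module.finrank R (Fin n → R) := LinearMap.finrank_range_of_inj hinj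
  obtain ⟨bM, c, bN, hc⟩ := Submodule.exists_smith_normal_form_of_rank_eq (Pi.basisFun R (Fin n)) hrk
  have hc0 : ∀ k, c k ≠ 0 := fun k h0 => bN.ne_zero k (Subtype.ext (by rw [hc, h0, zero_smul]; rfl))
  choose w v hv using fun k => IsDiscreteValuationRing.eq_unit_mul_pow_irreducible (hc0 k) hπ
  -- the rows of `g` as a basis of the range
  let eg : (Fin n → R) ≃ₗ[R] N := LinearEquiv.ofInjective _ hinj
  let bg : Module.Basis (Fin n) R N := (Pi.basisFun R (Fin n)).map eg
  let M0 : Matrix (Fin n) (Fin n) R := Matrix.of fun k l => bM k l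
  have hM0 : IsUnit M0.det := by
    rw [← Matrix.det_transpose, ← Matrix.isUnit_iff_isUnit_det]
    have e : M0ᵀ = (Pi.basisFun R (Fin n)).toMatrix bM := by
      ext k l
      simp [M0, Module.Basis.toMatrix_apply]
    rw [e]
    haveI := (Pi.basisFun R (Fin n)).invertibleToMatrix bM
    exact isUnit_of_invertible _
  let C : Matrix (Fin n) (Fin n) R := Matrix.of fun k l => bN.repr (bg k) l
  have hC : IsUnit C.det := by
    rw [← Matrix.det_transpose, ← Matrix.isUnit_iff_isUnit_det]
    have e : Cᵀ = bN.toMatrix bg := rfl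
    rw [e]
    haveI := bN.invertibleToMatrix bg
    exact isUnit_of_invertible _
  refine ⟨C * Matrix.diagonal (fun k => (v k : R)), M0, w, ?_, hM0, Matrix.ext fun k l => ?_⟩
  · rw [Matrix.det_mul, Matrix.det_diagonal]
    exact hC.mul (IsUnit.prod_univ_iff.2 fun k => (v k).isUnit)
  · have h := congrArg (fun x : N => (x : Fin n → R) l) (bN.sum_repr (bg k))
    simp only [AddSubmonoidClass.coe_finsetSum, SetLike.val_smul, Finset.sum_apply, Pi.smul_apply] at h
    have hrow : ((bg k : N) : Fin n → R) l = g k l := by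
      change (g.vecMulLinear (Pi.basisFun R (Fin n) k)) l = g k l
      simp [Pi.basisFun_apply]
    rw [← hrow, ← h, Matrix.mul_assoc, Matrix.mul_assoc, Matrix.mul_apply]
    refine Finset.sum_congr rfl fun i _ => ?_
    rw [hc, Pi.smul_apply, hv i, Matrix.diagonal_mul, Matrix.diagonal_mul]
    simp [C, M0, mul_assoc]

variable {F : Type u} [Field F] [Algebra R F] [IsFractionRing R F]

/-- An invertible matrix over the fraction field is a monomial diagonal up to integral invertible factors. -/
theorem exists_smith {π : R} (hπ : Irreducible π) (g : Matrix (Fin n) (Fin n) F) (hg : IsUnit g.det) :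
    ∃ (a b : Matrix (Fin n) (Fin n) R) (w : Fin n → ℤ), IsUnit a.det ∧ IsUnit b.det ∧
      g = a.map (algebraMap R F) * Matrix.diagonal (fun k => algebraMap R F π ^ w k) * b.map (algebraMap R F) := by
  classical
  obtain ⟨⟨s, hs⟩, hs'⟩ := IsLocalization.exist_integer_multiples_of_finite (nonZeroDivisors R)
    (fun kl : Fin n × Fin n => g kl.1 kl.2)
  choose m hm using hs'
  have hm' : ∀ k l, algebraMap R F (m (k, l)) = algebraMap R F s * g k l := fun k l => by
    rw [hm (k, l)]; exact Algebra.smul_def _ _
  obtain ⟨N, v, hv⟩ := IsDiscreteValuationRing.eq_unit_mul_pow_irreducible (nonZeroDivisors.ne_zero hs) hπ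
  let G : Matrix (Fin n) (Fin n) R := Matrix.of fun k l => (↑v⁻¹ : R) * m (k, l)
  have hπ0 : algebraMap R F π ≠ 0 := fun e => hπ.ne_zero (IsFractionRing.injective R F (e.trans (map_zero _).symm))
  have hG : G.map (algebraMap R F) = algebraMap R F π ^ N • g := Matrix.ext fun k l => by
    simp only [G, Matrix.map_apply, Matrix.of_apply, map_mul, hm', hv, map_pow, Matrix.smul_apply, smul_eq_mul]
    rw [← mul_assoc, ← mul_assoc, ← map_mul, Units.inv_mul, map_one, one_mul]
  have hG0 : G.det ≠ 0 := fun e => by
    have h := congrArg Matrix.det hG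
    rw [← RingHom.mapMatrix_apply, ← RingHom.map_det, e, map_zero, Matrix.det_smul] at h
    exact mul_ne_zero (pow_ne_zero _ (pow_ne_zero _ hπ0)) hg.ne_zero h.symm
  obtain ⟨a, b, w, ha, hb, hab⟩ := exists_smith_nat hπ G hG0
  refine ⟨a, b, fun k => (w k : ℤ) - N, ha, hb, ?_⟩
  have hd : Matrix.diagonal (fun k => algebraMap R F π ^ ((w k : ℤ) - N)) =
      (algebraMap R F π ^ N)⁻¹ • (Matrix.diagonal (fun k => π ^ w k)).map (algebraMap R F) := by
    rw [Matrix.diagonal_map (map_zero _), ← Matrix.diagonal_smul]
    congr 1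
    funext k
    simp [map_pow, zpow_sub₀ hπ0, div_eq_mul_inv, mul_comm]
  rw [hd, Matrix.mul_smul, Matrix.smul_mul, ← Matrix.map_mul, ← Matrix.map_mul, ← hab, hG, smul_smul,
    inv_mul_cancel₀ (pow_ne_zero _ hπ0), one_smul]

end Groth.Agent.GL44
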