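import Groth.Agent.GL44.Split
import Groth.Agent.GL44.Smith
import Mathlib.RingTheory.TensorProduct.Maps
import Mathlib.LinearAlgebra.TensorProduct.Tower

/-!
Transition matrices compatible with a translation of the variable.
-/

set_option autoImplicit false
set_option linter.style.haveILetI false
universe u

open scoped Matrix TensorProduct

noncomputable section

namespace Groth.Agent.GL44

variable {R : Type u} [CommRing R] {F : Type u} [Field F] [Algebra R F] {n : ℕ}

/-- The coefficient in the parameter. -/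
def coefT (i : ℤ) : LP F ⊗[R] LP R →ₗ[LP F] LP F :=
  LinearMap.liftBaseChange (LP F) ((Algebra.linearMap R (LP F)).comp (cf i))

theorem coefT_tmul (i : ℤ) (a : LP F) (l : LP R) : coefT i (a ⊗ₜ[R] l) = a * algebraMap R (LP F) (cf i l) := by
  simp [coefT]

theorem coefT_tmul_one (i : ℤ) (a : LP F) :
    coefT i (a ⊗ₜ[R] (1 : LP R)) = if i = 0 then a else 0 := by
  rw [coefT_tmul, ← tp_zero, cf_tp]
  split_ifs
  · rw [map_one, mul_one]
  · rw [map_zero, mul_zero]

theorem tmul_one_mul (a : LP F) (z : LP F ⊗[R] LP R) : (a ⊗ₜ[R] (1 : LP R)) * z = a • z := by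
  induction z using TensorProduct.induction_on with
  | zero => simp
  | tmul x y => rw [Algebra.TensorProduct.tmul_mul_tmul, one_mul, TensorProduct.smul_tmul', smul_eq_mul]
  | add x y hx hy => rw [mul_add, hx, hy, smul_add]

/-- The polynomials in the variable with coefficients in the parameter. -/
def polT : Subalgebra R (LP F ⊗[R] LP R) :=
  (Algebra.TensorProduct.map ((pol : Subalgebra F (LP F)).val.restrictScalars R) (AlgHom.id R (LP R))).range

theorem coefT_mem_pol {i : ℤ} {z : LP F ⊗[R] LP R} (h : z ∈ (polT : Subalgebra R (LP F ⊗[R] LP R))) :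
    coefT i z ∈ pol := by
  obtain ⟨w, rfl⟩ := h
  induction w using TensorProduct.induction_on with
  | zero => simp
  | tmul p l =>
    show coefT i ((p : LP F) ⊗ₜ[R] l) ∈ pol
    rw [coefT_tmul, IsScalarTower.algebraMap_apply R F (LP F)]
    exact mul_mem p.2 (Subalgebra.algebraMap_mem _ _)
  | add x y hx hy =>
    simp only [AlgHom.toRingHom_eq_coe, RingHom.coe_coe, map_add] at hx hy ⊢
    exact add_mem hx hy

variable (α : LP F →ₐ[R] LP F ⊗[R] LP R) (hα : ∀ (i : ℤ) (c : F), α (c • tp i) = (c • tp i) ⊗ₜ[R] tp i)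
include hα

theorem coefT_alpha (i : ℤ) (v : LP F) : coefT i (α v) = cf i v • tp i := by
  conv_lhs => rw [eq_sum_tp v (insert i (supp v)) (Finset.subset_insert _ _)]
  rw [map_sum, map_sum, Finset.sum_eq_single i]
  · rw [hα, coefT_tmul, cf_tp, if_pos rfl, map_one, mul_one]
  · intro l _ hl
    rw [hα, coefT_tmul, cf_tp, if_neg (Ne.symm hl), map_zero, mul_zero]
  · intro h
    exact absurd (Finset.mem_insert_self i _) h

theorem alpha_mem_polT {v : LP F} (hv : v ∈ pol) : α v ∈ (polT : Subalgebra R (LP F ⊗[R] LP R)) := by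
  rw [eq_sum_tp v (supp v) subset_rfl, map_sum]
  refine sum_mem fun i _ => ?_
  rcases lt_or_ge i 0 with hi | hi
  · rw [mem_pol.1 hv i hi, zero_smul, map_zero]
    exact zero_mem _
  · rw [hα]
    exact ⟨⟨cf i v • tp i, Subalgebra.smul_mem _ (tp_mem_pol hi) _⟩ ⊗ₜ[R] tp i, rfl⟩

/-- A transition matrix compatible with the translation has a graded lattice. -/
theorem graded_of_translate (g : Matrix (Fin n) (Fin n) (LP F)) (c c' : Matrix (Fin n) (Fin n) (LP F ⊗[R] LP R))
    (hc : ∀ k l, c' k l ∈ (polT : Subalgebra R (LP F ⊗[R] LP R))) (hcc : c * c' = 1)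
    (hg : g.map α = g.map (Algebra.TensorProduct.includeLeft : LP F →ₐ[R] LP F ⊗[R] LP R) * c)
    (v : Fin n → LP F) (hv : ∀ j, (v ᵥ* g) j ∈ pol) (i : ℤ) :
    ∀ j, ((fun k => cf i (v k) • tp i) ᵥ* g) j ∈ pol := by
  intro j
  have e : g.map (Algebra.TensorProduct.includeLeft : LP F →ₐ[R] LP F ⊗[R] LP R) = g.map α * c' := by
    rw [hg, Matrix.mul_assoc, hcc, Matrix.mul_one]
  have h1 : ((α ∘ v) ᵥ* g.map (Algebra.TensorProduct.includeLeft : LP F →ₐ[R] LP F ⊗[R] LP R)) j ∈
      (polT : Subalgebra R (LP F ⊗[R] LP R)) := by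
    rw [e, ← Matrix.vecMul_vecMul]
    change ∑ l, ((α ∘ v) ᵥ* g.map α) l * c' l j ∈ (polT : Subalgebra R (LP F ⊗[R] LP R))
    refine sum_mem fun l _ => mul_mem ?_ (hc l j)
    have h2 : ((α ∘ v) ᵥ* g.map α) l = α ((v ᵥ* g) l) :=
      (RingHom.map_vecMul α.toRingHom g v l).symm
    rw [h2]
    exact alpha_mem_polT α hα (hv l)
  have h3 := coefT_mem_pol (i := i) h1
  have h4 : coefT i (((α ∘ v) ᵥ* g.map (Algebra.TensorProduct.includeLeft : LP F →ₐ[R] LP F ⊗[R] LP R)) j) =
      ((fun k => cf i (v k) • tp i) ᵥ* g) j := by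
    simp only [Matrix.vecMul, dotProduct, map_sum, Function.comp_apply, Matrix.map_apply]
    refine Finset.sum_congr rfl fun k _ => ?_
    rw [← coefT_alpha α hα i (v k), mul_comm, Algebra.TensorProduct.includeLeft_apply,
      tmul_one_mul, map_smul,
      smul_eq_mul, mul_comm]
  rwa [h4] at h3

/-- An invariant transition matrix is constant. -/
theorem constant_of_invariant (g : Matrix (Fin n) (Fin n) (LP F))
    (hg : g.map α = g.map (Algebra.TensorProduct.includeLeft : LP F →ₐ[R] LP F ⊗[R] LP R)) :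
    g = (g.map (cf 0)).map (algebraMap F (LP F)) := by
  refine Matrix.ext fun k l => cf_ext fun i => ?_
  have h := congrArg (fun M : Matrix (Fin n) (Fin n) (LP F ⊗[R] LP R) => coefT i (M k l)) hg
  simp only [Matrix.map_apply, coefT_alpha α hα, Algebra.TensorProduct.includeLeft_apply, coefT_tmul_one] at h
  rw [Matrix.map_apply, Matrix.map_apply, Algebra.algebraMap_eq_smul_one, map_smul, ← tp_zero, cf_tp]
  split_ifs with hi
  · subst hi; simp
  · rw [if_neg hi] at h
    have h' := congrArg (cf i) h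
    rw [map_smul, cf_tp, if_pos rfl, smul_eq_mul, mul_one, map_zero] at h'
    rw [h', smul_zero]

end Groth.Agent.GL44
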