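import Groth.Prelude.Def_ThetaS

/-!
Ring-valued points of the multiplicative group given by units.
-/

set_option autoImplicit false
set_option linter.style.haveILetI false
set_option backward.isDefEq.respectTransparency false
set_option backward.isDefEq.respectTransparency.types false
universe u

open CategoryTheory MonoidalCategory CartesianMonoidalCategory AlgebraicGeometry Opposite
open scoped MonObj GrpObj TensorProduct

noncomputable section

namespace Groth.Agent.GL44

variable {R : Type u} [CommRing R] {K : Type u} [CommRing K] [Algebra R K]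

/-- The point given by a unit. -/
def lauPt (v : Kˣ) : ThetaS.Lau R →ₐ[R] K :=
  MonoidAlgebra.lift (R := R) (A := K) (M := Multiplicative ℤ)
    ((Units.coeHom K).comp (zpowersHom Kˣ v : Multiplicative ℤ →* Kˣ))

theorem lauPt_zPow (v : Kˣ) (i : ℤ) : lauPt (R := R) v (ThetaS.zPow R i) = ((v ^ i : Kˣ) : K) := by
  simp [lauPt, ThetaS.zPow, MonoidAlgebra.lift_single]

theorem lau_algHom_ext {φ ψ : ThetaS.Lau R →ₐ[R] K} (h : φ (ThetaS.zPow R 1) = ψ (ThetaS.zPow R 1)) : φ = ψ := by
  have h' : φ (ThetaS.zPow R (-1)) = ψ (ThetaS.zPow R (-1)) := by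
    refine left_inv_eq_right_inv (a := φ (ThetaS.zPow R 1)) ?_ ?_
    · rw [← map_mul, ThetaS.zPow_mul, show (-1 : ℤ) + 1 = 0 by norm_num, ThetaS.zPow_zero, map_one]
    · rw [h, ← map_mul, ThetaS.zPow_mul, show (1 : ℤ) + -1 = 0 by norm_num, ThetaS.zPow_zero, map_one]
  refine (MonoidAlgebra.lift (R := R) (A := K) (M := Multiplicative ℤ)).symm.injective (MonoidHom.ext fun m => ?_)
  obtain ⟨i, rfl⟩ := Multiplicative.ofAdd.surjective m
  change φ (ThetaS.zPow R i) = ψ (ThetaS.zPow R i)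
  induction i using Int.induction_on with
  | zero => rw [ThetaS.zPow_zero, map_one, map_one]
  | succ i ih => rw [← ThetaS.zPow_mul, map_mul, map_mul, ih, h]
  | pred i ih => rw [sub_eq_add_neg, ← ThetaS.zPow_mul, map_mul, map_mul, ih, h']

theorem lauPt_eq (v : Kˣ) (φ : ThetaS.Lau R →ₐ[R] K) (h : φ (ThetaS.zPow R 1) = v) : φ = lauPt v :=
  lau_algHom_ext (by rw [h, lauPt_zPow, zpow_one])

theorem lauPt_comp {K' : Type u} [CommRing K'] [Algebra R K'] (φ : K →ₐ[R] K') (v : Kˣ) :
    φ.comp (lauPt v) = lauPt (R := R) (Units.map φ.toRingHom.toMonoidHom v) :=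
  lauPt_eq _ _ (by rw [AlgHom.comp_apply, lauPt_zPow, zpow_one]; rfl)

/-- The point of the group given by a unit. -/
abbrev gmPt (v : Kˣ) : CoactBr.sp R K ⟶ ThetaS.Gm R := CoactBr.pt (lauPt v)

theorem gmPt_mul (v w : Kˣ) : gmPt (R := R) v * gmPt w = gmPt (v * w) := by
  refine (CoactBr.pt_mul_pt (lauPt (R := R) v) (lauPt w)).trans ?_
  congr 1
  refine lauPt_eq _ _ ?_
  rw [AlgHom.comp_apply, Bialgebra.comulAlgHom_apply, MonoidAlgebra.comul_single]
  simp [lauPt_zPow]

theorem gmPt_one : gmPt (R := R) (1 : Kˣ) = 1 := by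
  refine Eq.trans ?_ (CoactBr.one_eq_pt (R := R) (K := K) (A := ThetaS.Lau R)).symm
  refine congrArg CoactBr.pt (lauPt_eq _ _ ?_).symm
  simp [Bialgebra.counitAlgHom_apply]

theorem comp_gmPt {K' : Type u} [CommRing K'] [Algebra R K'] (φ : K →ₐ[R] K') (v : Kˣ) :
    CoactBr.pt φ ≫ gmPt v = gmPt (R := R) (Units.map φ.toRingHom.toMonoidHom v) := by
  rw [gmPt, ← CoactBr.pt_comp, lauPt_comp]

end Groth.Agent.GL44
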