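import Groth.Agent.GL44.Chart
import Groth.Agent.Theta44.ThetaAffine
import Mathlib.RingTheory.LocalRing.Module
import Mathlib.LinearAlgebra.FreeModule.PID
import Mathlib.RingTheory.Flat.TorsionFree

/-!
Morphisms of charts of the line and of the two-branched curve, and rings with free projective modules.
-/

set_option autoImplicit false
set_option linter.style.haveILetI false
set_option linter.unusedSectionVars false
set_option backward.isDefEq.respectTransparency false
set_option backward.isDefEq.respectTransparency.types false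
universe u

open CategoryTheory CategoryTheory.Limits MonoidalCategory CartesianMonoidalCategory AlgebraicGeometry AlgSt
open scoped TensorProduct Polynomial MonObj GrpObj

noncomputable section

namespace Groth.Agent.GL44

theorem free_of_local (R : Type u) [CommRing R] [IsLocalRing R] (M : Type u) [AddCommGroup M] [Module R M]
    (_ : Module.Finite R M) (_ : Module.Projective R M) : Module.Free R M :=
  Module.free_of_flat_of_isLocalRing

theorem free_of_pid (R : Type u) [CommRing R] [IsDomain R] [IsPrincipalIdealRing R] (M : Type u) [AddCommGroup M]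
    [Module R M] (_ : Module.Finite R M) (_ : Module.Projective R M) : Module.Free R M :=
  Module.free_iff_isTorsionFree.2 inferInstance

variable {R : Type u} [CommRing R] {A A' : Type u} [CommRing A] [CommRing A'] [Algebra R A] [Algebra R A']

theorem chartRel_line {b : R[X] →ₐ[R] A} {b' : R[X] →ₐ[R] A'} {φ : A →ₐ[R] A'} {v : A'ˣ}
    (e : (v : A') * φ (b Polynomial.X) = b' Polynomial.X) : ChartRel (ThetaS.lineAction R) b b' φ v := by
  unfold ChartRel
  have h1 : φ.comp b = ThetaS.linePt (φ (b Polynomial.X)) := Polynomial.algHom_ext (by simp)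
  have h2 : b' = ThetaS.linePt (b' Polynomial.X) := Polynomial.algHom_ext (by simp)
  rw [← CoactBr.pt_comp, h1, h2]
  refine (ThetaS.lineAction_pt (lauPt (R := R) v) _).trans ?_
  rw [lauPt_zPow, zpow_one, e]

theorem chartRel_st [IsDomain R] {π : R} {b : ThetaS.STRing R π →ₐ[R] A} {b' : ThetaS.STRing R π →ₐ[R] A'} {φ : A →ₐ[R] A'}
    {v : A'ˣ} (es : (v : A') * φ (b (ThetaS.sFn R π)) = b' (ThetaS.sFn R π))
    (et : ((v⁻¹ : A'ˣ) : A') * φ (b (ThetaS.tFn R π)) = b' (ThetaS.tFn R π)) :
    ChartRel (ThetaS.stAction R π) b b' φ v := by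
  unfold ChartRel
  rw [← CoactBr.pt_comp]
  obtain ⟨ψ, h1, h2, h3⟩ := Theta44.lift_pt_stAction (R := R) π (lauPt (R := R) v) (φ.comp b)
  refine h1.trans (congrArg CoactBr.pt (ThetaS.stRing_algHom_ext ?_ ?_))
  · rw [h2, lauPt_zPow, zpow_one]
    exact es
  · rw [h3, lauPt_zPow, zpow_neg_one]
    exact et

end Groth.Agent.GL44
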