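import Groth.Agent.AlgGrp79.GLnDiag
import Groth.Prelude.Def_FrameBundle

/-!
Points of the general linear group over any base as invertible matrices of functions.
-/

set_option autoImplicit false
set_option linter.style.haveILetI false
set_option backward.isDefEq.respectTransparency.types false
universe u

open CategoryTheory CategoryTheory.Limits MonoidalCategory CartesianMonoidalCategory MonObj AlgebraicGeometry
open Groth.Agent.RedPts82

noncomputable section

namespace Groth.Agent.GL44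

open AlgGrp79

variable {n : ℕ} {S : Scheme.{u}} {T T' : Over S}

/-- The base of the group over the integers. -/
abbrev toZ (S : Scheme.{u}) : S ⟶ Spec (CommRingCat.of (ULift.{u} ℤ)) := IsTerminal.from specULiftZIsTerminal S

/-- The matrix of a point. -/
def mat (g : T ⟶ FrB.GLn n S) : Matrix (Fin n) (Fin n) Γ(T.left, ⊤) :=
  GLnDiag.glFn (k := ULift.{u} ℤ) (m := n) (toBase (toZ S) g)

theorem mat_comp (f : T' ⟶ T) (g : T ⟶ FrB.GLn n S) : mat (f ≫ g) = (mat g).map f.left.appTop.hom := by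
  unfold mat
  rw [toBase_comp, GLnDiag.glFn_comp]
  rfl

theorem mat_mul (g h : T ⟶ FrB.GLn n S) : mat (g * h) = mat g * mat h := by
  unfold mat
  rw [toBase_mul, GLnDiag.glFn_mul]

theorem mat_isUnit (g : T ⟶ FrB.GLn n S) : IsUnit (mat g).det := GLnDiag.glFn_isUnit _

theorem mat_injective {g h : T ⟶ FrB.GLn n S} (e : mat g = mat h) : g = h :=
  toBase_injective _ (GLnDiag.glFn_injective e)

theorem mat_surjective (M : Matrix (Fin n) (Fin n) Γ(T.left, ⊤)) (hM : IsUnit M.det) :
    ∃ g : T ⟶ FrB.GLn n S, mat g = M := by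
  obtain ⟨y, hy⟩ := GLnDiag.glFn_surjective (k := ULift.{u} ℤ) (X := (Over.map (toZ S)).obj T) M hM
  exact ⟨ofBase (toZ S) y, by rw [mat, toBase_ofBase]; exact hy⟩

theorem mat_one : mat (1 : T ⟶ FrB.GLn n S) = 1 := by
  have h := mat_mul (1 : T ⟶ FrB.GLn n S) 1
  rw [_root_.one_mul] at h
  obtain ⟨v, hv⟩ := (Matrix.isUnit_iff_isUnit_det _).2 (mat_isUnit (1 : T ⟶ FrB.GLn n S))
  rw [← hv] at h ⊢
  simpa using congrArg ((↑v⁻¹ : Matrix (Fin n) (Fin n) Γ(T.left, ⊤)) * ·) h.symm

section Affine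

variable {A B : Type u} [CommRing A] [CommRing B] {k : Spec (CommRingCat.of A) ⟶ S}
  {k' : Spec (CommRingCat.of B) ⟶ S}

/-- The matrix of a point over an affine scheme. -/
def coMat (g : Over.mk k ⟶ FrB.GLn n S) : Matrix (Fin n) (Fin n) A :=
  (mat g).map (Scheme.ΓSpecIso (CommRingCat.of A)).hom.hom

theorem coMat_comp (m : Over.mk k' ⟶ Over.mk k) (φ : A →+* B) (hm : m.left = Spec.map (CommRingCat.ofHom φ))
    (g : Over.mk k ⟶ FrB.GLn n S) : coMat (m ≫ g) = (coMat g).map φ := by
  rw [coMat, mat_comp, hm]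
  ext i j
  exact congr($(Scheme.ΓSpecIso_naturality (CommRingCat.ofHom φ)) (mat g i j))

theorem coMat_mul (g h : Over.mk k ⟶ FrB.GLn n S) : coMat (g * h) = coMat g * coMat h := by
  unfold coMat
  rw [mat_mul, Matrix.map_mul]

theorem coMat_isUnit (g : Over.mk k ⟶ FrB.GLn n S) : IsUnit (coMat g).det := by
  unfold coMat
  rw [← RingHom.mapMatrix_apply, ← RingHom.map_det]
  exact (mat_isUnit g).map _

theorem coMat_one : coMat (1 : Over.mk k ⟶ FrB.GLn n S) = 1 := by
  unfold coMat
  rw [mat_one, Matrix.map_one _ (map_zero _) (map_one _)]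

theorem coMat_injective {g h : Over.mk k ⟶ FrB.GLn n S} (e : coMat g = coMat h) : g = h :=
  mat_injective (Matrix.map_injective (ConcreteCategory.bijective_of_isIso (Scheme.ΓSpecIso (CommRingCat.of A)).hom).1 e)

theorem coMat_surjective (M : Matrix (Fin n) (Fin n) A) (hM : IsUnit M.det) :
    ∃ g : Over.mk k ⟶ FrB.GLn n S, coMat g = M := by
  obtain ⟨g, hg⟩ := mat_surjective (T := Over.mk k) (M.map (Scheme.ΓSpecIso (CommRingCat.of A)).inv.hom) (by
    rw [← RingHom.mapMatrix_apply, ← RingHom.map_det]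
    exact hM.map _)
  refine ⟨g, ?_⟩
  rw [coMat, hg]
  ext i j
  exact congr($((Scheme.ΓSpecIso (CommRingCat.of A)).inv_hom_id) (M i j))

/-- The unit point. -/
def unitPt (k : Spec (CommRingCat.of A) ⟶ S) (n : ℕ) : Over.mk k ⟶ FrB.GLn n S := 1

theorem unitPt_eq : unitPt k n = 1 := rfl

theorem coMat_unitPt : coMat (unitPt k n) = 1 := coMat_one

end Affine

end Groth.Agent.GL44
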