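import Groth.Agent.GL44.Shift
import Groth.Agent.Theta44.ThetaAffine

/-!
The two branches of the curve `s t = π`.
-/

set_option autoImplicit false
set_option maxHeartbeats 1000000
set_option linter.style.haveILetI false
set_option linter.unusedSectionVars false
set_option backward.isDefEq.respectTransparency false
set_option backward.isDefEq.respectTransparency.types false
universe u

open CategoryTheory
open scoped TensorProduct Polynomial

noncomputable section

namespace Groth.Agent.GL44

theorem IsAway.of_mul_unit {B A : Type u} [CommRing B] [CommRing A] {f : B →+* A} {p v : B} (hv : IsUnit v)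
    (h : IsAway f p) : IsAway f (p * v) := by
  obtain ⟨h1, h2, h3⟩ := isAway_iff.1 h
  refine isAway_iff.2 ⟨?_, fun z => ?_, fun c hc => ?_⟩
  · rw [map_mul]
    exact h1.mul (hv.map f)
  · obtain ⟨k, c, hk⟩ := h2 z
    exact ⟨k, c * v ^ k, by rw [map_mul, map_mul, mul_pow, map_pow, ← hk, mul_assoc]⟩
  · obtain ⟨k, hk⟩ := h3 c hc
    exact ⟨k, by rw [mul_pow, mul_right_comm, hk, zero_mul]⟩

variable {R : Type u} [CommRing R] {π : R}

/-- Every element is a polynomial in one coordinate after multiplication by its power. -/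
theorem exists_pow_mul_aeval (x y : ThetaS.STRing R π) (hxy : x * y = algebraMap R _ π)
    (hgen : ∀ i, (Ideal.Quotient.mk _ (MvPolynomial.X i) : ThetaS.STRing R π) = x ∨
      (Ideal.Quotient.mk _ (MvPolynomial.X i) : ThetaS.STRing R π) = y) (c : ThetaS.STRing R π) :
    ∃ (k : ℕ) (f : R[X]), x ^ k * c = Polynomial.aeval x f := by
  obtain ⟨g, rfl⟩ := Ideal.Quotient.mk_surjective c
  induction g using MvPolynomial.induction_on with
  | C r => exact ⟨0, Polynomial.C r, by
      rw [pow_zero, one_mul, Polynomial.aeval_C, IsScalarTower.algebraMap_apply R (MvPolynomial (Fin 2) R)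
        (ThetaS.STRing R π), Ideal.Quotient.algebraMap_eq, MvPolynomial.algebraMap_eq]⟩
  | add f g hf hg =>
    obtain ⟨k, f', hf⟩ := hf
    obtain ⟨l, g', hg⟩ := hg
    refine ⟨k + l, f' * Polynomial.X ^ l + g' * Polynomial.X ^ k, ?_⟩
    rw [map_add, map_add, map_mul, map_mul, map_pow, map_pow, Polynomial.aeval_X, ← hf, ← hg]
    ring
  | mul_X f j hf =>
    obtain ⟨k, f', hf⟩ := hf
    rcases hgen j with e | e
    · exact ⟨k, f' * Polynomial.X, by rw [map_mul, e, map_mul, Polynomial.aeval_X, ← mul_assoc, hf]⟩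
    · refine ⟨k + 1, f' * Polynomial.C π, ?_⟩
      rw [map_mul, e, map_mul, Polynomial.aeval_C, ← hf, ← hxy]
      ring

theorem isAway_stBranch (x y : ThetaS.STRing R π) (hxy : x * y = algebraMap R _ π)
    (hgen : ∀ i, (Ideal.Quotient.mk _ (MvPolynomial.X i) : ThetaS.STRing R π) = x ∨
      (Ideal.Quotient.mk _ (MvPolynomial.X i) : ThetaS.STRing R π) = y)
    (b : ThetaS.STRing R π →ₐ[R] LP R) (hb : b x = tp 1) : IsAway b.toRingHom x := by
  have hx : ∀ f : R[X], b (Polynomial.aeval x f) = toLP R f := fun f => by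
    rw [← Polynomial.aeval_algHom_apply, hb]
    rfl
  obtain ⟨-, h2, -⟩ := isAway_iff.1 (isAway_toLP (K := R))
  refine isAway_iff.2 ⟨?_, fun z => ?_, fun c hc => ?_⟩
  · show IsUnit (b x)
    rw [hb]
    exact isUnit_tp 1
  · obtain ⟨k, f, hk⟩ := h2 z
    refine ⟨k, Polynomial.aeval x f, ?_⟩
    show z * b x ^ k = b _
    rw [hx, hb]
    simpa [toLP] using hk
  · obtain ⟨k, f, hk⟩ := exists_pow_mul_aeval x y hxy hgen c
    refine ⟨k, ?_⟩
    have : toLP R f = 0 := by
      rw [← hx, ← hk, map_mul, show b c = 0 from hc, mul_zero]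
    rw [hk, toLP_injective (this.trans (map_zero _).symm), map_zero]

variable (π) in
/-- The branch where the first coordinate is invertible. -/
def sBranch : ThetaS.STRing R π →ₐ[R] LP R :=
  ThetaS.stPt (tp 1) (algebraMap R (LP R) π * tp (-1)) (by
    rw [mul_left_comm, tp_mul, add_neg_cancel, tp_zero, mul_one])

variable (π) in
/-- The branch where the second coordinate is invertible. -/
def tBranch : ThetaS.STRing R π →ₐ[R] LP R :=
  ThetaS.stPt (algebraMap R (LP R) π * tp (-1)) (tp 1) (by
    rw [mul_assoc, tp_mul, neg_add_cancel, tp_zero, mul_one])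

theorem sBranch_s : sBranch π (ThetaS.sFn R π) = tp 1 := ThetaS.stPt_sFn _ _ _

theorem sBranch_t : sBranch π (ThetaS.tFn R π) = algebraMap R (LP R) π * tp (-1) := ThetaS.stPt_tFn _ _ _

theorem tBranch_s : tBranch π (ThetaS.sFn R π) = algebraMap R (LP R) π * tp (-1) := ThetaS.stPt_sFn _ _ _

theorem tBranch_t : tBranch π (ThetaS.tFn R π) = tp 1 := ThetaS.stPt_tFn _ _ _

theorem isAway_sBranch : IsAway (sBranch π).toRingHom (ThetaS.sFn R π) :=
  isAway_stBranch _ _ (ThetaS.sFn_mul_tFn R π) (fun i => by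
    fin_cases i
    · exact Or.inl rfl
    · exact Or.inr rfl) _ sBranch_s

theorem isAway_tBranch : IsAway (tBranch π).toRingHom (ThetaS.tFn R π) :=
  isAway_stBranch _ _ ((mul_comm _ _).trans (ThetaS.sFn_mul_tFn R π)) (fun i => by
    fin_cases i
    · exact Or.inr rfl
    · exact Or.inl rfl) _ tBranch_t

variable {F : Type u} [Field F] [Algebra R F]

/-- The unit giving the gluing of the branches. -/
def flipUnit {p : F} (hp : p ≠ 0) : (LP F)ˣ :=
  Units.map (algebraMap F (LP F)).toMonoidHom (Units.mk0 p hp) * tpU (-1)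

/-- The gluing of the branches. -/
def flipMap (R : Type u) [CommRing R] [Algebra R F] {p : F} (hp : p ≠ 0) : LP R →ₐ[R] LP F :=
  lauPt (flipUnit hp)

theorem flipMap_tp {p : F} (hp : p ≠ 0) (i : ℤ) : flipMap R hp (tp i) = p ^ i • tp (-i) := by
  rw [flipMap, ← zPow_eq_tp, lauPt_zPow, flipUnit, mul_zpow, tpU_zpow, ← map_zpow, Algebra.smul_def, Units.val_mul,
    tpU_val, neg_one_mul]
  refine congrArg (· * (tp (-i) : LP F)) ?_
  show algebraMap F (LP F) ↑(Units.mk0 p hp ^ i) = _
  rw [Units.val_zpow_eq_zpow_val, Units.val_mk0]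

end Groth.Agent.GL44
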