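import Groth.Agent.GL44.Theta
import Groth.Agent.GL44.STRings
import Groth.Agent.GL44.Smith

/-!
The classifying category of the general linear group fills the punctured two-branched stack.
-/

set_option autoImplicit false
set_option maxHeartbeats 1000000
set_option linter.style.haveILetI false
set_option linter.unusedSectionVars false
set_option backward.isDefEq.respectTransparency false
set_option backward.isDefEq.respectTransparency.types false
universe u

open CategoryTheory CategoryTheory.Limits MonoidalCategory CartesianMonoidalCategory AlgebraicGeometry AlgSt FibCat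
open Groth.Agent.AlgSt88 Groth.Agent.BGaST Groth.Agent.Theta44
open scoped TensorProduct Polynomial MonObj GrpObj Matrix

noncomputable section

namespace Groth.Agent.GL44

variable {R : Type u} [CommRing R] {F : Type u} [Field F] [Algebra R F]

theorem shiftUnit_mul_shift (c : F) :
    (shiftUnit R (LP F) : LP F ⊗[R] LP R) * shift R F (c • tp 1) = (c • tp 1) ⊗ₜ[R] (1 : LP R) := by
  rw [shiftUnit_val, shift_smul_tp, Algebra.TensorProduct.tmul_mul_tmul, one_mul, tp_mul,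
    show (-1 : ℤ) + 1 = 0 by norm_num, tp_zero]

theorem shiftUnit_inv_mul_shift (c : F) :
    (((shiftUnit R (LP F))⁻¹ : (LP F ⊗[R] LP R)ˣ) : LP F ⊗[R] LP R) * shift R F (c • tp (-1)) =
      (c • tp (-1)) ⊗ₜ[R] (1 : LP R) := by
  rw [shiftUnit, ← map_inv]
  show ((1 : LP F) ⊗ₜ[R] (((tpU (-1))⁻¹ : (LP R)ˣ) : LP R)) * _ = _
  rw [tpU_inv, neg_neg, shift_smul_tp, Algebra.TensorProduct.tmul_mul_tmul, one_mul, tp_mul, add_neg_cancel, tp_zero]

variable {S : Scheme.{u}} {n : ℕ} {π : R} [IsDomain R] [IsDiscreteValuationRing R] [IsFractionRing R F]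

theorem liftsUniquely_st_aux (hG : IsAffineHom (FrB.GLn n S).hom) (hπ : Irreducible π)
    (h : Spec (CommRingCat.of R) ⟶ S) :
    LiftSq.LiftsUniquely (ThetaS.stIncl Scheme.fppfPrecoverage R π h) (toSelf (BGc (FrB.GLn n S))) := by
  classical
  let F := FractionRing R
  let πF : F := algebraMap R F π
  have hπ0 : πF ≠ 0 := fun e => hπ.ne_zero (IsFractionRing.injective R F (e.trans (map_zero _).symm))
  let a := ThetaS.stAction R π
  let φ₁ : LP R →ₐ[R] LP F := lpMap R F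
  let φ₂ : LP R →ₐ[R] LP F := flipMap R hπ0
  let b₁ := sBranch π
  let b₂ := tBranch π
  let b₁₂ : ThetaS.STRing R π →ₐ[R] LP F := φ₁.comp b₁
  have hφ₁c : φ₁ (algebraMap R (LP R) π * tp (-1)) = πF • tp (-1) := by
    rw [map_mul, φ₁.commutes, lpMap_tp, IsScalarTower.algebraMap_apply R F (LP F), ← Algebra.smul_def]
  have hφ₂1 : φ₂ (tp 1) = πF • tp (-1) := by rw [flipMap_tp, zpow_one]
  have hφ₂c : φ₂ (algebraMap R (LP R) π * tp (-1)) = tp 1 := by
    rw [map_mul, φ₂.commutes, flipMap_tp, IsScalarTower.algebraMap_apply R F (LP F), ← Algebra.smul_def, smul_smul,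
      zpow_neg_one, mul_inv_cancel₀ hπ0, one_smul, neg_neg]
  have hb12s : b₁₂ (ThetaS.sFn R π) = tp 1 := by rw [AlgHom.comp_apply, sBranch_s, lpMap_tp]
  have hb12t : b₁₂ (ThetaS.tFn R π) = πF • tp (-1) := by rw [AlgHom.comp_apply, sBranch_t, hφ₁c]
  have h₂ : φ₂.comp b₂ = b₁₂ := ThetaS.stRing_algHom_ext (by rw [hb12s, AlgHom.comp_apply, tBranch_s, hφ₂c])
    (by rw [hb12t, AlgHom.comp_apply, tBranch_t, hφ₂1])
  obtain ⟨ψ, hψ, hs, ht⟩ := univPt_stAction (R := R) π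
  refine liftsUniquely_of_frames h a b₁ b₂ b₁₂ φ₁ φ₂ hG (sFn_regular hπ.ne_zero) (sFn_tFn_regular hπ.ne_zero) hψ
    ⟨_, (isUnit_zPow 1).map _, hs⟩ ⟨_, (isUnit_zPow (-1)).map _, ht⟩ _ (fun A => Iff.rfl) isAway_sBranch
    isAway_tBranch (by rw [sBranch_t]; exact (isAway_lpMap hπ).of_mul_unit (isUnit_tp _)) rfl h₂ (fun Fn hP => ?_)
  obtain ⟨hflat, hlfp⟩ := flat_lfp_GLn n S
  have hBG := (isStack_BG hG).1
  let b₀s : ThetaS.STRing R π →ₐ[R] R := ThetaS.stPt 1 π (by simp)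
  let b₀t : ThetaS.STRing R π →ₐ[R] R := ThetaS.stPt π 1 (by simp)
  let α : LP F →ₐ[R] LP F ⊗[R] LP R := shift R F
  let β : LP F →ₐ[R] LP F ⊗[R] LP R := Algebra.TensorProduct.includeLeft
  let b' : ThetaS.STRing R π →ₐ[R] LP F ⊗[R] LP R := β.comp b₁₂
  let uα := shiftUnit R (LP F)
  have p₀s := hP b₀s (Or.inl (by simp [b₀s]))
  have p₀t := hP b₀t (Or.inr (by simp [b₀t]))
  have p₁ := hP b₁ (Or.inl (by rw [sBranch_s]; exact isUnit_tp 1))
  have p₂ := hP b₂ (Or.inr (by rw [tBranch_t]; exact isUnit_tp 1))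
  have p₁₂ := hP b₁₂ (Or.inl (by rw [hb12s]; exact isUnit_tp 1))
  have p' := hP b' (Or.inl (by
    rw [AlgHom.comp_apply, hb12s]
    exact (isUnit_tp 1).map _))
  -- the frames pulled back from the two points
  obtain ⟨e₀s, he₀s⟩ := exists_frame Fn hG p₀s (free_of_local R)
  obtain ⟨e₀t, he₀t⟩ := exists_frame Fn hG p₀t (free_of_local R)
  have rs : ChartRel a b₀s b₁ (Algebra.ofId R (LP R)) (tpU 1) := chartRel_st
    (by rw [sBranch_s, tpU_val, show b₀s (ThetaS.sFn R π) = 1 from ThetaS.stPt_sFn _ _ _, map_one, mul_one])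
    (by rw [sBranch_t, tpU_inv, show b₀s (ThetaS.tFn R π) = π from ThetaS.stPt_tFn _ _ _, Algebra.ofId_apply, mul_comm])
  have rt : ChartRel a b₀t b₂ (Algebra.ofId R (LP R)) (tpU (-1)) := chartRel_st
    (by rw [tBranch_s, tpU_val, show b₀t (ThetaS.sFn R π) = π from ThetaS.stPt_sFn _ _ _, Algebra.ofId_apply, mul_comm])
    (by rw [tBranch_t, tpU_inv, neg_neg, show b₀t (ThetaS.tFn R π) = 1 from ThetaS.stPt_tFn _ _ _, map_one, mul_one])
  obtain ⟨e₁, he₁, he₁'⟩ : ∃ e₁ : trivObj (FrB.GLn n S) (Sga84.sp h (LP R)) ⟶ Fc Fn p₁, ∃ he₁ : IsFrame Fn e₁,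
      ∀ (α β : LP R →ₐ[R] LP F ⊗[R] LP R) (uα uβ : (LP F ⊗[R] LP R)ˣ) (rα : ChartRel a b₁ b' α uα)
        (rβ : ChartRel a b₁ b' β uβ), uα * Units.map α.toRingHom.toMonoidHom (tpU 1) =
          uβ * Units.map β.toRingHom.toMonoidHom (tpU 1) →
        res Fn hBG e₁ he₁ α uα rα (hb' := p') = res Fn hBG e₁ he₁ β uβ rβ :=
    ⟨res Fn hBG e₀s he₀s _ _ rs, isFrame_res Fn hBG e₀s he₀s _ _ rs, fun α β uα uβ rα rβ hw =>
      res_invariant Fn hBG e₀s he₀s _ rs α β uα uβ rα rβ hw⟩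
  obtain ⟨e₂, he₂, he₂'⟩ : ∃ e₂ : trivObj (FrB.GLn n S) (Sga84.sp h (LP R)) ⟶ Fc Fn p₂, ∃ he₂ : IsFrame Fn e₂,
      ∀ (α β : LP R →ₐ[R] LP F ⊗[R] LP R) (uα uβ : (LP F ⊗[R] LP R)ˣ) (rα : ChartRel a b₂ b' α uα)
        (rβ : ChartRel a b₂ b' β uβ), uα * Units.map α.toRingHom.toMonoidHom (tpU (-1)) =
          uβ * Units.map β.toRingHom.toMonoidHom (tpU (-1)) →
        res Fn hBG e₂ he₂ α uα rα (hb' := p') = res Fn hBG e₂ he₂ β uβ rβ :=
    ⟨res Fn hBG e₀t he₀t _ _ rt, isFrame_res Fn hBG e₀t he₀t _ _ rt, fun α β uα uβ rα rβ hw =>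
      res_invariant Fn hBG e₀t he₀t _ rt α β uα uβ rα rβ hw⟩
  obtain ⟨g, hg⟩ := exists_trans Fn hBG (chartRel_one a rfl) (chartRel_one a h₂) e₁ he₁ e₂ he₂ (hb₁₂ := p₁₂)
  have rα : ChartRel a b₁₂ b' α uα := chartRel_st
    (by
      rw [show b' (ThetaS.sFn R π) = b₁₂ (ThetaS.sFn R π) ⊗ₜ[R] (1 : LP R) from rfl, hb12s]
      simpa using shiftUnit_mul_shift (R := R) (1 : F))
    (by
      rw [show b' (ThetaS.tFn R π) = b₁₂ (ThetaS.tFn R π) ⊗ₜ[R] (1 : LP R) from rfl, hb12t]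
      exact shiftUnit_inv_mul_shift πF)
  have rβ : ChartRel a b₁₂ b' β 1 := chartRel_one a rfl
  have r₁α : ChartRel a b₁ b' (α.comp φ₁) uα := by
    have := chartRel_comp a (chartRel_one a (rfl : φ₁.comp b₁ = b₁₂)) rα
    rwa [map_one, mul_one] at this
  have r₁β : ChartRel a b₁ b' (β.comp φ₁) 1 := chartRel_one a rfl
  have r₂α : ChartRel a b₂ b' (α.comp φ₂) uα := by
    have := chartRel_comp a (chartRel_one a h₂) rα
    rwa [map_one, mul_one] at this
  have r₂β : ChartRel a b₂ b' (β.comp φ₂) 1 := chartRel_one a (by rw [AlgHom.comp_assoc, h₂])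
  have hinv := trans_rel_invariant Fn hBG (chartRel_one a rfl) (chartRel_one a h₂) e₁ he₁ e₂ he₂ g hg α β uα 1 rα rβ
    r₁α r₁β r₂α r₂β (hb' := p')
    (he₁' _ _ _ _ r₁α r₁β (Units.ext (by
      show (uα : LP F ⊗[R] LP R) * α (φ₁ (tp 1)) = 1 * β (φ₁ (tp 1))
      rw [lpMap_tp, one_mul]
      simpa [β] using shiftUnit_mul_shift (R := R) (1 : F)))) (by
      refine he₂' _ _ _ _ r₂α r₂β (Units.ext ?_)
      show (uα : LP F ⊗[R] LP R) * α (φ₂ (tp (-1))) = 1 * β (φ₂ (tp (-1)))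
      rw [flipMap_tp, neg_neg, one_mul]
      exact shiftUnit_mul_shift (πF ^ (-1 : ℤ)))
  -- the transition is constant
  have hconst := constant_of_invariant α shift_smul_tp (coMat g) hinv
  let g₀ : Matrix (Fin n) (Fin n) F := (coMat g).map (cf 0)
  have hg₀ : IsUnit g₀.det := by
    refine isUnit_iff_ne_zero.2 fun e => (coMat_isUnit g).ne_zero ?_
    rw [hconst, ← RingHom.mapMatrix_apply, ← RingHom.map_det]
    exact (congrArg (algebraMap F (LP F)) e).trans (map_zero _)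
  obtain ⟨m, b, w, hm, hb, hmb⟩ := exists_smith (F := F) hπ g₀ hg₀
  let M₁ : Matrix (Fin n) (Fin n) (LP R) :=
    Matrix.diagonal (fun k => tp (-w k)) * m⁻¹.map (algebraMap R (LP R))
  let M₂ : Matrix (Fin n) (Fin n) (LP R) := Matrix.diagonal (fun k => tp (w k)) * b.map (algebraMap R (LP R))
  have hM : ∀ (c : Fin n → ℤ) (N : Matrix (Fin n) (Fin n) R), IsUnit N.det →
      IsUnit (Matrix.diagonal (fun k => (tp (c k) : LP R)) * N.map (algebraMap R (LP R))).det := fun c N hN => by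
    rw [Matrix.det_mul, Matrix.det_diagonal]
    exact (IsUnit.prod_univ_iff.2 fun k => isUnit_tp (c k)).mul (isUnit_det_map _ hN)
  obtain ⟨g₁, hg₁⟩ := coMat_surjective (n := n) (k := Spec.map (CommRingCat.ofHom (algebraMap R (LP R))) ≫ h) M₁
    (hM _ _ (Matrix.isUnit_nonsing_inv_det_iff.2 hm))
  obtain ⟨g₂, hg₂⟩ := coMat_surjective (n := n) (k := Spec.map (CommRingCat.ofHom (algebraMap R (LP R))) ≫ h) M₂
    (hM _ _ hb)
  refine ⟨p₁, p₂, p₁₂, tr g₁ ≫ e₁, isFrame_tr Fn g₁ e₁ he₁, tr g₂ ≫ e₂, isFrame_tr Fn g₂ e₂ he₂,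
    res_tr_eq Fn hBG _ _ e₁ he₁ e₂ he₂ g hg g₁ g₂ ?_⟩
  have e₁M : M₁.map φ₁ = Matrix.diagonal (fun k => (tp (-w k) : LP F)) * m⁻¹.map (algebraMap R (LP F)) := by
    refine (Matrix.map_mul (f := φ₁.toRingHom)).trans ?_
    congr 1
    · rw [Matrix.diagonal_map (map_zero _)]
      exact congrArg Matrix.diagonal (funext fun k => lpMap_tp _)
    · rw [Matrix.map_map]
      exact congrArg m⁻¹.map (funext fun r => φ₁.commutes r)
  have e₂M : M₂.map φ₂ = Matrix.diagonal (fun k => (πF ^ w k • tp (-w k) : LP F)) * b.map (algebraMap R (LP F)) := by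
    refine (Matrix.map_mul (f := φ₂.toRingHom)).trans ?_
    congr 1
    · rw [Matrix.diagonal_map (map_zero _)]
      exact congrArg Matrix.diagonal (funext fun k => flipMap_tp hπ0 _)
    · rw [Matrix.map_map]
      exact congrArg b.map (funext fun r => φ₂.commutes r)
  have eg : coMat g = m.map (algebraMap R (LP F)) * Matrix.diagonal (fun k => algebraMap F (LP F) (πF ^ w k)) *
      b.map (algebraMap R (LP F)) := by
    rw [hconst]
    show g₀.map (algebraMap F (LP F)) = _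
    rw [hmb, Matrix.map_mul, Matrix.map_mul, Matrix.diagonal_map (map_zero _), Matrix.map_map, Matrix.map_map]
    simp only [Function.comp_def, πF, ← IsScalarTower.algebraMap_apply]
  have hmm : m⁻¹.map (algebraMap R (LP F)) * m.map (algebraMap R (LP F)) = 1 := by
    rw [← Matrix.map_mul, Matrix.nonsing_inv_mul _ hm, Matrix.map_one _ (map_zero _) (map_one _)]
  rw [hg₁, hg₂, e₁M, e₂M, eg, Matrix.mul_assoc, ← Matrix.mul_assoc (m⁻¹.map _), ← Matrix.mul_assoc (m⁻¹.map _),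
    hmm, Matrix.one_mul, ← Matrix.mul_assoc, Matrix.diagonal_mul_diagonal]
  congr 2
  funext k
  rw [Algebra.smul_def, mul_comm]

end Groth.Agent.GL44
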