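import Groth.Agent.GL44.Graded
import Groth.Agent.GL44.Rings
import Groth.Agent.GL44.Lau

/-!
The translation of the Laurent algebra and of the polynomial algebra, and units given by powers.
-/

set_option autoImplicit false
set_option linter.style.haveILetI false
set_option linter.unusedSectionVars false
set_option backward.isDefEq.respectTransparency false
set_option backward.isDefEq.respectTransparency.types false
universe u

open CategoryTheory
open scoped TensorProduct Polynomial

noncomputable section

namespace Groth.Agent.GL44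

variable {R : Type u} [CommRing R] {K : Type u} [CommRing K] [Algebra R K]

/-- The powers of the variable as units. -/
def tpU (i : ℤ) : (LP K)ˣ where
  val := tp i
  inv := tp (-i)
  val_inv := by rw [tp_mul, add_neg_cancel, tp_zero]
  inv_val := by rw [tp_mul, neg_add_cancel, tp_zero]

theorem tpU_val (i : ℤ) : ((tpU i : (LP K)ˣ) : LP K) = tp i := rfl

theorem tpU_inv (i : ℤ) : (((tpU i)⁻¹ : (LP K)ˣ) : LP K) = tp (-i) := rfl

theorem tpU_zpow (i k : ℤ) : (tpU i : (LP K)ˣ) ^ k = tpU (i * k) := by
  induction k using Int.induction_on with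
  | zero => rw [zpow_zero, mul_zero]; exact Units.ext tp_zero.symm
  | succ k ih =>
    rw [zpow_add_one, ih, mul_add, mul_one]
    exact Units.ext (tp_mul _ _)
  | pred k ih =>
    rw [zpow_sub_one, ih, mul_sub, mul_one, sub_eq_add_neg]
    exact Units.ext (tp_mul _ _)

theorem zPow_eq_tp (i : ℤ) : ThetaS.zPow R i = tp i := rfl

/-- The translation. -/
def shift (R K : Type u) [CommRing R] [CommRing K] [Algebra R K] : LP K →ₐ[R] LP K ⊗[R] LP R :=
  (MonoidAlgebra.lift (R := K) (A := LP K ⊗[R] LP R) (M := Multiplicative ℤ)
    { toFun := fun m => tp m.toAdd ⊗ₜ[R] tp m.toAdd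
      map_one' := by rw [toAdd_one, tp_zero, tp_zero]; rfl
      map_mul' := fun a b => by
        rw [Algebra.TensorProduct.tmul_mul_tmul, tp_mul, tp_mul, toAdd_mul] }).restrictScalars R

theorem shift_smul_tp (i : ℤ) (c : K) : shift R K (c • tp i) = (c • tp i) ⊗ₜ[R] tp i := by
  rw [shift, AlgHom.restrictScalars_apply, map_smul]
  conv_lhs => rw [tp, MonoidAlgebra.lift_single, one_smul]
  exact TensorProduct.smul_tmul' c (tp i) (tp i)

theorem shift_tp (i : ℤ) : shift R K (tp i) = tp i ⊗ₜ[R] tp i := by
  have h := shift_smul_tp (R := R) i (1 : K)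
  rwa [one_smul] at h

/-- The translation of polynomials. -/
def shiftPol (R K : Type u) [CommRing R] [CommRing K] [Algebra R K] : K[X] →ₐ[R] K[X] ⊗[R] LP R :=
  (Polynomial.aeval ((Polynomial.X : K[X]) ⊗ₜ[R] (tp 1 : LP R))).restrictScalars R

theorem shiftPol_monomial (m : ℕ) (c : K) :
    shiftPol R K (Polynomial.monomial m c) = Polynomial.monomial m c ⊗ₜ[R] tp (m : ℤ) := by
  rw [shiftPol, AlgHom.restrictScalars_apply, Polynomial.aeval_monomial, Algebra.TensorProduct.tmul_pow, tp_pow,
    Algebra.TensorProduct.algebraMap_apply, Algebra.TensorProduct.tmul_mul_tmul, one_mul,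
    Polynomial.algebraMap_eq, Polynomial.C_mul_X_pow_eq_monomial]

/-- The polynomials inside the Laurent algebra over the base. -/
abbrev toLPR (R K : Type u) [CommRing R] [CommRing K] [Algebra R K] : K[X] →ₐ[R] LP K := (toLP K).restrictScalars R

theorem shift_toLP (f : K[X]) :
    shift R K (toLP K f) = Algebra.TensorProduct.map (toLPR R K) (AlgHom.id R (LP R)) (shiftPol R K f) := by
  induction f using Polynomial.induction_on' with
  | add f g hf hg => rw [map_add, map_add, map_add, map_add, hf, hg]
  | monomial m c =>
    rw [shiftPol_monomial, Algebra.TensorProduct.map_tmul, toLP, Polynomial.aeval_monomial, tp_pow,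
      ← Algebra.smul_def, shift_smul_tp]
    rw [AlgHom.id_apply, toLPR, AlgHom.restrictScalars_apply, toLP, Polynomial.aeval_monomial, tp_pow,
      ← Algebra.smul_def]

section Field

variable {F : Type u} [Field F] [Algebra R F]

theorem map_mem_polT (z : F[X] ⊗[R] LP R) :
    Algebra.TensorProduct.map (toLPR R F) (AlgHom.id R (LP R)) z ∈ (polT : Subalgebra R (LP F ⊗[R] LP R)) := by
  induction z using TensorProduct.induction_on with
  | zero => rw [map_zero]; exact zero_mem _
  | tmul f l => exact ⟨⟨toLP F f, toLP_mem_pol f⟩ ⊗ₜ[R] l, rfl⟩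
  | add x y hx hy => rw [map_add]; exact add_mem hx hy

end Field

end Groth.Agent.GL44
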