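import Groth.Agent.GL44.Adapted
import Mathlib.Algebra.MonoidAlgebra.Basic
import Mathlib.RingTheory.DiscreteValuationRing.Basic
import Mathlib.LinearAlgebra.Matrix.ToLinearEquiv

/-!
Transition matrices with a graded lattice split into an integral matrix, a monomial diagonal and a polynomial
matrix.
-/

set_option autoImplicit false
set_option linter.style.haveILetI false
universe u

open scoped Matrix

noncomputable section

namespace Groth.Agent.GL44

/-- The Laurent algebra. -/
abbrev LP (K : Type u) [CommRing K] : Type u := MonoidAlgebra K (Multiplicative ℤ)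

variable {K : Type u} [CommRing K]

/-- The coefficient of a power. -/
def cf (i : ℤ) : LP K →ₗ[K] K where
  toFun v := v.coeff (Multiplicative.ofAdd i)
  map_add' _ _ := by simp
  map_smul' _ _ := by simp

/-- A power of the variable. -/
def tp (i : ℤ) : LP K := MonoidAlgebra.single (Multiplicative.ofAdd i) 1

theorem tp_mul (i j : ℤ) : (tp i : LP K) * tp j = tp (i + j) := by
  simp [tp, MonoidAlgebra.single_mul_single, ← ofAdd_add]

theorem tp_zero : (tp 0 : LP K) = 1 := rfl

theorem cf_tp_mul (i l : ℤ) (v : LP K) : cf l (tp i * v) = cf (l - i) v := by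
  show (MonoidAlgebra.single _ 1 * v).coeff _ = _
  rw [MonoidAlgebra.coeff_single_mul_apply, one_mul]
  show v.coeff (Multiplicative.ofAdd (-i + l)) = v.coeff (Multiplicative.ofAdd (l - i))
  rw [show -i + l = l - i by ring]

theorem tp_pow (k : ℕ) : (tp 1 : LP K) ^ k = tp (k : ℤ) := by
  induction k with
  | zero => rw [pow_zero, Nat.cast_zero, tp_zero]
  | succ k ih => rw [pow_succ, ih, tp_mul, Nat.cast_succ]

theorem cf_ext {v v' : LP K} (h : ∀ i, cf i v = cf i v') : v = v' := by
  ext m
  exact h m.toAdd

/-- The support of a Laurent element. -/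
def supp (v : LP K) : Finset ℤ := v.coeff.support.map Multiplicative.toAdd.toEmbedding

theorem cf_eq_zero_of_notMem {v : LP K} {i : ℤ} (h : i ∉ supp v) : cf i v = 0 := by
  by_contra h'
  exact h (Finset.mem_map.2 ⟨Multiplicative.ofAdd i, Finsupp.mem_support_iff.2 h', rfl⟩)

theorem cf_tp (i l : ℤ) : cf l (tp i : LP K) = if l = i then 1 else 0 := by
  show (MonoidAlgebra.single (Multiplicative.ofAdd i) (1 : K)).coeff (Multiplicative.ofAdd l) = _
  rw [MonoidAlgebra.coeff_single, Finsupp.single_apply]
  simp [eq_comm]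

theorem eq_sum_tp (v : LP K) (s : Finset ℤ) (h : supp v ⊆ s) : v = ∑ i ∈ s, cf i v • tp i := by
  refine cf_ext fun l => ?_
  rw [map_sum]
  simp only [map_smul, cf_tp, smul_eq_mul, mul_ite, mul_one, mul_zero]
  rw [Finset.sum_ite_eq]
  split_ifs with hl
  · rfl
  · exact cf_eq_zero_of_notMem fun hl' => hl (h hl')

/-- The polynomials inside the Laurent algebra. -/
def pol : Subalgebra K (LP K) :=
  Subalgebra.copy (Algebra.adjoin K {(tp 1 : LP K)}) {v | ∀ i : ℤ, i < 0 → cf i v = 0} (by
    refine Set.Subset.antisymm (fun v hv => ?_) (fun v hv => ?_)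
    · rw [eq_sum_tp v (supp v) subset_rfl]
      refine Subalgebra.sum_mem _ fun i _ => ?_
      rcases lt_or_ge i 0 with hi | hi
      · rw [hv i hi, zero_smul]; exact zero_mem _
      · refine Subalgebra.smul_mem _ ?_ _
        obtain ⟨k, rfl⟩ := Int.eq_ofNat_of_zero_le hi
        rw [← tp_pow]
        exact pow_mem (Algebra.self_mem_adjoin_singleton K _) k
    · have hv' : v ∈ Submodule.span K (Submonoid.closure {(tp 1 : LP K)} : Set (LP K)) := by
        rwa [← Algebra.adjoin_eq_span]
      clear hv
      refine Submodule.span_induction ?_ (fun i _ => map_zero _) (fun x y _ _ hx hy i hi => by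
        rw [map_add, hx i hi, hy i hi, add_zero]) (fun r x _ hx i hi => by rw [map_smul, hx i hi, smul_zero]) hv'
      intro x hx i hi
      obtain ⟨k, rfl⟩ := Submonoid.mem_closure_singleton.1 hx
      rw [tp_pow, cf_tp, if_neg (by omega)])

theorem mem_pol {v : LP K} : v ∈ (pol : Subalgebra K (LP K)) ↔ ∀ i : ℤ, i < 0 → cf i v = 0 := Iff.rfl

theorem tp_mem_pol {i : ℤ} (hi : 0 ≤ i) : (tp i : LP K) ∈ (pol : Subalgebra K (LP K)) :=
  mem_pol.2 fun l hl => by rw [cf_tp, if_neg (by omega)]

section Theta

variable {R : Type u} [CommRing R] [IsDomain R] [IsPrincipalIdealRing R] {F : Type u} [Field F] [Algebra R F]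
  [IsFractionRing R F] {n : ℕ}

/-- Splitting of a transition matrix whose lattice is graded. -/
theorem exists_theta_split (g : Matrix (Fin n) (Fin n) (LP F)) (hg : IsUnit g.det)
    (hgr : ∀ v : Fin n → LP F, (∀ j, (v ᵥ* g) j ∈ pol) → ∀ i : ℤ,
      ∀ j, ((fun k => cf i (v k) • tp i) ᵥ* g) j ∈ pol) :
    ∃ (w : Fin n → ℤ) (Bm : Matrix (Fin n) (Fin n) R), IsUnit Bm.det ∧
      (∀ i j, (Matrix.diagonal (fun k => (tp (w k) : LP F)) * Bm.map (algebraMap R (LP F)) * g :
        Matrix (Fin n) (Fin n) (LP F)) i j ∈ pol) ∧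
      ∃ U : Matrix (Fin n) (Fin n) (LP F), (∀ i j, U i j ∈ pol) ∧
        U * (Matrix.diagonal (fun k => (tp (w k) : LP F)) * Bm.map (algebraMap R (LP F)) * g) = 1 := by
  classical
  -- the graded pieces
  let piece : ℤ → Submodule R (Fin n → R) := fun i =>
    { carrier := {m | ∀ j, ((fun k => algebraMap R F (m k) • tp i) ᵥ* g) j ∈ pol}
      add_mem' := fun {a b} ha hb j => by
        have e : (fun k => algebraMap R F ((a + b) k) • (tp i : LP F)) =
            (fun k => algebraMap R F (a k) • tp i) + fun k => algebraMap R F (b k) • tp i := by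
          funext k; simp [add_smul]
        rw [e, Matrix.add_vecMul]
        exact add_mem (ha j) (hb j)
      zero_mem' := fun j => by
        have e : (fun k => algebraMap R F ((0 : Fin n → R) k) • (tp i : LP F)) = 0 := by funext k; simp
        rw [e, Matrix.zero_vecMul]
        exact zero_mem _
      smul_mem' := fun r a ha j => by
        have e : (fun k => algebraMap R F ((r • a) k) • (tp i : LP F)) =
            algebraMap R F r • fun k => algebraMap R F (a k) • tp i := by
          funext k
          rw [Pi.smul_apply, Pi.smul_apply, smul_smul, smul_eq_mul, map_mul]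
        rw [e, Matrix.smul_vecMul]
        exact Subalgebra.smul_mem _ (ha j) _ }
  have hstep : ∀ i i' : ℤ, i ≤ i' → piece i ≤ piece i' := by
    intro i i' hii' m hm j
    have e : (fun k => algebraMap R F (m k) • (tp i' : LP F)) =
        (tp (i' - i) : LP F) • fun k => algebraMap R F (m k) • tp i := by
      funext k; simp [tp_mul]
    rw [e, Matrix.smul_vecMul, Pi.smul_apply, smul_eq_mul]
    exact mul_mem (tp_mem_pol (sub_nonneg.2 hii')) (hm j)
  have hsat : ∀ i, ∀ (r : R) (m : Fin n → R), r ≠ 0 → r • m ∈ piece i → m ∈ piece i := by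
    intro i r m hr hm j
    have hr' : algebraMap R F r ≠ 0 := fun e => hr ((IsFractionRing.injective R F) (e.trans (map_zero _).symm))
    have e : (fun k => algebraMap R F (m k) • (tp i : LP F)) =
        (algebraMap R F r)⁻¹ • fun k => algebraMap R F ((r • m) k) • tp i := by
      funext k; simp [smul_smul, hr']
    rw [e, Matrix.smul_vecMul]
    exact Subalgebra.smul_mem _ (hm j) _
  let gi : Matrix (Fin n) (Fin n) (LP F) := g⁻¹
  obtain ⟨d, hd⟩ : ∃ d : ℕ, ∀ k j, ∀ l ∈ supp (g k j) ∪ supp (gi k j), -(d : ℤ) < l := by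
    refine ⟨(Finset.univ.biUnion fun kj : Fin n × Fin n => supp (g kj.1 kj.2) ∪ supp (gi kj.1 kj.2)).sup Int.natAbs + 1,
      fun k j l hl => ?_⟩
    have := Finset.le_sup (f := Int.natAbs)
      (Finset.mem_biUnion.2 ⟨(k, j), Finset.mem_univ _, hl⟩ : l ∈ Finset.univ.biUnion
        fun kj : Fin n × Fin n => supp (g kj.1 kj.2) ∪ supp (gi kj.1 kj.2))
    omega
  have hlow : ∀ i : ℤ, i ≤ -(d : ℤ) → piece i = ⊥ := by
    intro i hi
    refine (Submodule.eq_bot_iff _).2 fun m hm => funext fun k => IsFractionRing.injective R F ?_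
    let v : Fin n → LP F := fun k => algebraMap R F (m k) • tp i
    have hv : v = (v ᵥ* g) ᵥ* gi := by
      rw [Matrix.vecMul_vecMul, Matrix.mul_nonsing_inv _ hg, Matrix.vecMul_one]
    have h0 : cf i (v k) = 0 := by
      rw [hv]
      change cf i (∑ j, (v ᵥ* g) j * gi j k) = 0
      rw [map_sum]
      refine Finset.sum_eq_zero fun j _ => ?_
      rw [eq_sum_tp ((v ᵥ* g) j) (supp ((v ᵥ* g) j)) subset_rfl, Finset.sum_mul, map_sum]
      refine Finset.sum_eq_zero fun l _ => ?_
      rw [smul_mul_assoc, map_smul, cf_tp_mul]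
      rcases lt_or_ge l 0 with hl | hl
      · rw [mem_pol.1 (hm j) l hl, zero_smul]
      · rw [cf_eq_zero_of_notMem (i := i - l) (v := gi j k) (fun hmem => by
          have := hd j k (i - l) (Finset.mem_union_right _ hmem)
          omega), smul_zero]
    simpa [v, cf_tp] using h0
  have hhigh : piece (d : ℤ) = ⊤ := by
    refine eq_top_iff.2 fun m _ j => ?_
    change ∑ k, (algebraMap R F (m k) • tp (d : ℤ)) * g k j ∈ pol
    refine Subalgebra.sum_mem _ fun k _ => ?_
    rw [smul_mul_assoc]
    refine Subalgebra.smul_mem _ (mem_pol.2 fun l hl => ?_) _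
    rw [cf_tp_mul]
    exact cf_eq_zero_of_notMem fun hmem => by
      have := hd k j (l - d) (Finset.mem_union_left _ hmem)
      omega
  obtain ⟨b, w, hbw, hsp⟩ := exists_adapted (fun k : ℕ => piece ((k : ℤ) - d))
    (hlow _ (by simp)) (fun k k' hk => hstep _ _ (by omega)) (fun k => hsat _) (d + d) (by simpa using hhigh)
  let w' : Fin n → ℤ := fun k => (w k : ℤ) - d
  let Bm : Matrix (Fin n) (Fin n) R := Matrix.of fun k => b k
  let H : Matrix (Fin n) (Fin n) (LP F) := Matrix.diagonal (fun k => tp (w' k)) * Bm.map (algebraMap R (LP F)) * g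
  have hrow : ∀ k, (Matrix.diagonal (fun k => (tp (w' k) : LP F)) * Bm.map (algebraMap R (LP F))) k =
      fun l => algebraMap R F (b k l) • tp (w' k) := fun k => funext fun l => by
    rw [Matrix.diagonal_mul, Matrix.map_apply, Algebra.smul_def, mul_comm,
      IsScalarTower.algebraMap_apply R F (LP F)]
    rfl
  have hH : ∀ k j, H k j ∈ pol := fun k j => by
    show ((Matrix.diagonal (fun k => (tp (w' k) : LP F)) * Bm.map (algebraMap R (LP F))) k ᵥ* g) j ∈ pol
    rw [hrow]
    exact hbw k j
  refine ⟨w', Bm, ?_, hH, ?_⟩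
  · rw [← Matrix.isUnit_iff_isUnit_det, ← Matrix.isUnit_transpose]
    have e : Bmᵀ = (Pi.basisFun R (Fin n)).toMatrix b := by
      ext k l
      simp [Bm, Module.Basis.toMatrix_apply]
    rw [e]
    haveI := (Pi.basisFun R (Fin n)).invertibleToMatrix b
    exact isUnit_of_invertible _
  · -- every polynomial row is a polynomial combination of the rows
    let P : Submodule (pol : Subalgebra F (LP F)) (Fin n → LP F) :=
      Submodule.span _ (Set.range fun k => fun j => H k j)
    have hgen : ∀ (i : ℤ) (m : Fin n → R), m ∈ piece i → ((fun k => algebraMap R F (m k) • tp i) ᵥ* g) ∈ P := by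
      intro i m hm
      rcases le_or_gt i (-(d : ℤ)) with hi | hi
      · rw [hlow i hi, Submodule.mem_bot] at hm
        subst hm
        convert P.zero_mem
        funext j
        simp [Matrix.vecMul, dotProduct]
      obtain ⟨i', hi'⟩ : ∃ i' : ℕ, i = (i' : ℤ) - d := ⟨(i + d).toNat, by omega⟩
      subst hi'
      refine Submodule.span_induction ?_ ?_ ?_ ?_ (hsp i' hm)
      · rintro _ ⟨k, hk, rfl⟩
        have e : (fun l => algebraMap R F (b k l) • (tp ((i' : ℤ) - d) : LP F)) ᵥ* g =
            (⟨tp ((i' : ℤ) - (w k : ℤ)), tp_mem_pol (by simp at hk ⊢; omega)⟩ : (pol : Subalgebra F (LP F))) •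
              fun j => H k j := by
          funext j
          show _ = tp ((i' : ℤ) - (w k : ℤ)) * H k j
          rw [show H k j = ((Matrix.diagonal (fun k => (tp (w' k) : LP F)) * Bm.map (algebraMap R (LP F))) k ᵥ* g) j
            from rfl, hrow, ← smul_eq_mul, ← Pi.smul_apply, ← Matrix.smul_vecMul]
          congr 1
          funext l
          simp [tp_mul, w']
        rw [e]
        exact P.smul_mem _ (Submodule.subset_span ⟨k, rfl⟩)
      · convert P.zero_mem
        funext j
        simp [Matrix.vecMul, dotProduct]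
      · intro x y _ _ hx hy
        convert P.add_mem hx hy
        rw [← Matrix.add_vecMul]
        congr 1
        funext k; simp [add_smul]
      · intro r x _ hx
        convert P.smul_mem (algebraMap F (pol : Subalgebra F (LP F)) (algebraMap R F r)) hx
        rw [algebraMap_smul, ← Matrix.smul_vecMul]
        congr 1
        funext k
        rw [Pi.smul_apply, Pi.smul_apply, smul_smul, smul_eq_mul, map_mul]
    have hgen' : ∀ (i : ℤ) (c : Fin n → F), (∀ j, ((fun k => c k • tp i) ᵥ* g) j ∈ pol) →
        ((fun k => c k • tp i) ᵥ* g) ∈ P := by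
      intro i c hc
      obtain ⟨⟨s, hs⟩, hs'⟩ := IsLocalization.exist_integer_multiples_of_finite (nonZeroDivisors R) c
      choose m hm using hs'
      have hs0 : algebraMap R F s ≠ 0 := fun e =>
        nonZeroDivisors.ne_zero hs (IsFractionRing.injective R F (e.trans (map_zero _).symm))
      have e : ∀ k, algebraMap R F (m k) = algebraMap R F s * c k := fun k => by
        rw [hm k]; exact Algebra.smul_def _ _
      have e2 : (fun k => c k • (tp i : LP F)) = (algebraMap R F s)⁻¹ • fun k => algebraMap R F (m k) • tp i := by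
        funext k; simp [e, smul_smul, hs0]
      rw [e2, Matrix.smul_vecMul, ← algebraMap_smul (pol : Subalgebra F (LP F)) (algebraMap R F s)⁻¹]
      refine P.smul_mem _ (hgen i m fun j => ?_)
      have e3 : (fun k => algebraMap R F (m k) • (tp i : LP F)) = algebraMap R F s • fun k => c k • tp i := by
        funext k; simp [e, smul_smul]
      rw [e3, Matrix.smul_vecMul]
      exact Subalgebra.smul_mem _ (hc j) _
    have hone : ∀ k, (fun j => (1 : Matrix (Fin n) (Fin n) (LP F)) k j) ∈ P := by
      intro k
      let v : Fin n → LP F := fun l => gi k l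
      have hv : v ᵥ* g = fun j => (1 : Matrix (Fin n) (Fin n) (LP F)) k j := by
        funext j
        show (gi * g) k j = _
        rw [Matrix.nonsing_inv_mul _ hg]
      let s := Finset.univ.biUnion fun l => supp (v l)
      have hsum : v = ∑ i ∈ s, fun l => cf i (v l) • tp i := funext fun l => by
        rw [Finset.sum_apply]
        exact eq_sum_tp (v l) s (Finset.subset_biUnion_of_mem (fun l => supp (v l)) (Finset.mem_univ l))
      rw [← hv, hsum, Matrix.sum_vecMul]
      refine P.sum_mem fun i _ => hgen' i _ (hgr v (fun j => ?_) i)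
      rw [hv]
      show (1 : Matrix (Fin n) (Fin n) (LP F)) k j ∈ pol
      rw [Matrix.one_apply]
      split_ifs
      · exact one_mem _
      · exact zero_mem _
    choose U hU using fun k => (Submodule.mem_span_range_iff_exists_fun _).1 (hone k)
    refine ⟨Matrix.of fun k l => (U k l : LP F), fun k l => (U k l).2, ?_⟩
    refine Matrix.ext fun k j => ?_
    rw [Matrix.mul_apply]
    have := congrFun (hU k) j
    simp only [Finset.sum_apply, Pi.smul_apply] at this
    exact this

end Theta

end Groth.Agent.GL44
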