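import Groth.Agent.GL44.Frame
import Groth.Agent.GL44.Points

/-!
Transition matrices between frames and their behaviour under two pullbacks.
-/

set_option autoImplicit false
set_option maxHeartbeats 1000000
set_option linter.style.haveILetI false
set_option linter.unusedSectionVars false
set_option backward.isDefEq.respectTransparency false
set_option backward.isDefEq.respectTransparency.types false
universe u

open CategoryTheory CategoryTheory.Limits MonoidalCategory CartesianMonoidalCategory AlgebraicGeometry AlgSt FibCat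
open Groth.Agent.AlgSt88 Groth.Agent.BGaST
open scoped TensorProduct MonObj GrpObj

noncomputable section

namespace Groth.Agent.GL44

variable {S : Scheme.{u}} {n : ℕ} {R : Type u} [CommRing R] {B : Type u} [CommRing B] [Algebra R B]
  {h : Spec (CommRingCat.of R) ⟶ S} {a : AlgGrp.Action (ThetaS.Gm R) (CoactBr.sp R B)}
  {P : (QS h a).obj → Prop} (F : AlgSt.fullSub (QS h a) P ⥤ᵇ BGc (FrB.GLn n S))
  (hBG : IsFibGrpd (BGc (FrB.GLn n S)).p)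

include hBG

/-- A frame pulled back from a point has equal pullbacks along morphisms agreeing on the point. -/
theorem res_invariant {A A' : Type u} [CommRing A] [CommRing A'] [Algebra R A] [Algebra R A']
    {b₀ : B →ₐ[R] R} {b : B →ₐ[R] A} {b' : B →ₐ[R] A'} {hb₀ : P (chartR h a b₀)} {hb : P (chartR h a b)}
    {hb' : P (chartR h a b')} (e₀ : trivObj (FrB.GLn n S) (Sga84.sp h R) ⟶ Fc F hb₀) (he₀ : IsFrame F e₀)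
    (v : Aˣ) (r : ChartRel a b₀ b (Algebra.ofId R A) v) (α β : A →ₐ[R] A') (uα uβ : A'ˣ)
    (rα : ChartRel a b b' α uα) (rβ : ChartRel a b b' β uβ)
    (hw : uα * Units.map α.toRingHom.toMonoidHom v = uβ * Units.map β.toRingHom.toMonoidHom v) :
    res F hBG (res F hBG e₀ he₀ (Algebra.ofId R A) v r (hb' := hb)) (isFrame_res F hBG e₀ he₀ _ v r) α uα rα
        (hb' := hb') =
      res F hBG (res F hBG e₀ he₀ (Algebra.ofId R A) v r (hb' := hb)) (isFrame_res F hBG e₀ he₀ _ v r) β uβ rβ := by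
  have rw' : ChartRel a b₀ b' (Algebra.ofId R A') (uα * Units.map α.toRingHom.toMonoidHom v) := by
    have := chartRel_comp a r rα
    rwa [Subsingleton.elim (α.comp (Algebra.ofId R A)) (Algebra.ofId R A')] at this
  rw [res_res F hBG e₀ he₀ _ v r α uα rα (Algebra.ofId R A') _ rw' (Subsingleton.elim _ _) rfl,
    res_res F hBG e₀ he₀ _ v r β uβ rβ (Algebra.ofId R A') _ rw' (Subsingleton.elim _ _) hw.symm]

variable {A₁ A₂ A₁₂ : Type u} [CommRing A₁] [CommRing A₂] [CommRing A₁₂] [Algebra R A₁] [Algebra R A₂]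
  [Algebra R A₁₂] {b₁ : B →ₐ[R] A₁} {b₂ : B →ₐ[R] A₂} {b₁₂ : B →ₐ[R] A₁₂} {φ₁ : A₁ →ₐ[R] A₁₂} {φ₂ : A₂ →ₐ[R] A₁₂}
  {hb₁ : P (chartR h a b₁)} {hb₂ : P (chartR h a b₂)} {hb₁₂ : P (chartR h a b₁₂)}

/-- The transition matrix of two frames. -/
theorem exists_trans (r₁ : ChartRel a b₁ b₁₂ φ₁ 1) (r₂ : ChartRel a b₂ b₁₂ φ₂ 1)
    (e₁ : trivObj (FrB.GLn n S) (Sga84.sp h A₁) ⟶ Fc F hb₁) (he₁ : IsFrame F e₁)
    (e₂ : trivObj (FrB.GLn n S) (Sga84.sp h A₂) ⟶ Fc F hb₂) (he₂ : IsFrame F e₂) :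
    ∃ g : Sga84.sp h A₁₂ ⟶ FrB.GLn n S,
      res F hBG e₁ he₁ φ₁ 1 r₁ (hb' := hb₁₂) = tr g ≫ res F hBG e₂ he₂ φ₂ 1 r₂ :=
  frame_diff hBG _ _ (isFrame_res F hBG e₂ he₂ φ₂ 1 r₂) (isFrame_res F hBG e₁ he₁ φ₁ 1 r₁)

/-- Frames with a given change of transition agree on the overlap. -/
theorem res_tr_eq (r₁ : ChartRel a b₁ b₁₂ φ₁ 1) (r₂ : ChartRel a b₂ b₁₂ φ₂ 1)
    (e₁ : trivObj (FrB.GLn n S) (Sga84.sp h A₁) ⟶ Fc F hb₁) (he₁ : IsFrame F e₁)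
    (e₂ : trivObj (FrB.GLn n S) (Sga84.sp h A₂) ⟶ Fc F hb₂) (he₂ : IsFrame F e₂)
    (g : Sga84.sp h A₁₂ ⟶ FrB.GLn n S)
    (hg : res F hBG e₁ he₁ φ₁ 1 r₁ (hb' := hb₁₂) = tr g ≫ res F hBG e₂ he₂ φ₂ 1 r₂)
    (g₁ : Sga84.sp h A₁ ⟶ FrB.GLn n S) (g₂ : Sga84.sp h A₂ ⟶ FrB.GLn n S)
    (hm : (coMat g₁).map φ₁ * coMat g = (coMat g₂).map φ₂) :
    res F hBG (tr g₁ ≫ e₁) (isFrame_tr F g₁ e₁ he₁) φ₁ 1 r₁ (hb' := hb₁₂) =
      res F hBG (tr g₂ ≫ e₂) (isFrame_tr F g₂ e₂ he₂) φ₂ 1 r₂ := by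
  rw [res_tr F hBG g₁ e₁ he₁, res_tr F hBG g₂ e₂ he₂, hg, ← Category.assoc, tr_mul]
  refine congrArg (fun x => tr x ≫ _) (coMat_injective ?_)
  rw [coMat_mul, coMat_comp _ φ₁.toRingHom rfl, coMat_comp _ φ₂.toRingHom rfl]
  exact hm

/-- The change of a transition matrix under two pullbacks. -/
theorem trans_rel {A' : Type u} [CommRing A'] [Algebra R A'] {b' : B →ₐ[R] A'} {hb' : P (chartR h a b')}
    (r₁ : ChartRel a b₁ b₁₂ φ₁ 1) (r₂ : ChartRel a b₂ b₁₂ φ₂ 1)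
    (e₁ : trivObj (FrB.GLn n S) (Sga84.sp h A₁) ⟶ Fc F hb₁) (he₁ : IsFrame F e₁)
    (e₂ : trivObj (FrB.GLn n S) (Sga84.sp h A₂) ⟶ Fc F hb₂) (he₂ : IsFrame F e₂)
    (g : Sga84.sp h A₁₂ ⟶ FrB.GLn n S)
    (hg : res F hBG e₁ he₁ φ₁ 1 r₁ (hb' := hb₁₂) = tr g ≫ res F hBG e₂ he₂ φ₂ 1 r₂)
    (α β : A₁₂ →ₐ[R] A') (uα uβ : A'ˣ) (rα : ChartRel a b₁₂ b' α uα) (rβ : ChartRel a b₁₂ b' β uβ)
    (r₁α : ChartRel a b₁ b' (α.comp φ₁) uα) (r₁β : ChartRel a b₁ b' (β.comp φ₁) uβ)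
    (r₂α : ChartRel a b₂ b' (α.comp φ₂) uα) (r₂β : ChartRel a b₂ b' (β.comp φ₂) uβ)
    (h₁ : res F hBG e₁ he₁ (α.comp φ₁) uα r₁α (hb' := hb') = res F hBG e₁ he₁ (β.comp φ₁) uβ r₁β)
    (c : Sga84.sp h A' ⟶ FrB.GLn n S)
    (h₂ : res F hBG e₂ he₂ (α.comp φ₂) uα r₂α (hb' := hb') = tr c ≫ res F hBG e₂ he₂ (β.comp φ₂) uβ r₂β) :
    (coMat g).map α * coMat c = (coMat g).map β := by
  have key : ∀ (δ : A₁₂ →ₐ[R] A') (w : A'ˣ) (rδ : ChartRel a b₁₂ b' δ w) (r₁δ : ChartRel a b₁ b' (δ.comp φ₁) w)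
      (r₂δ : ChartRel a b₂ b' (δ.comp φ₂) w),
      res F hBG e₁ he₁ (δ.comp φ₁) w r₁δ (hb' := hb') =
        tr (Sga84.spMap h δ ≫ g) ≫ res F hBG e₂ he₂ (δ.comp φ₂) w r₂δ := by
    intro δ w rδ r₁δ r₂δ
    rw [← res_res F hBG e₁ he₁ φ₁ 1 r₁ δ w rδ (δ.comp φ₁) w r₁δ rfl (by simp) (hb' := hb₁₂),
      ← res_res F hBG e₂ he₂ φ₂ 1 r₂ δ w rδ (δ.comp φ₂) w r₂δ rfl (by simp) (hb' := hb₁₂),
      res_congr F hBG _ _ _ (isFrame_tr F g _ (isFrame_res F hBG e₂ he₂ φ₂ 1 r₂)) hg δ δ w w rδ rδ rfl rfl,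
      res_tr F hBG g _ (isFrame_res F hBG e₂ he₂ φ₂ 1 r₂)]
  rw [key α uα rα r₁α r₂α, key β uβ rβ r₁β r₂β, h₂, ← Category.assoc, tr_mul] at h₁
  have h3 := congrArg coMat (frame_cancel hBG _ h₁)
  rwa [coMat_mul, coMat_comp _ α.toRingHom rfl, coMat_comp _ β.toRingHom rfl] at h3

/-- The change of a transition matrix when the second chart maps to an intermediate chart. -/
theorem trans_rel_lift {A' A₂' : Type u} [CommRing A'] [Algebra R A'] [CommRing A₂'] [Algebra R A₂']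
    {b' : B →ₐ[R] A'} {b₂' : B →ₐ[R] A₂'} {hb' : P (chartR h a b')} {hb₂' : P (chartR h a b₂')}
    (r₁ : ChartRel a b₁ b₁₂ φ₁ 1) (r₂ : ChartRel a b₂ b₁₂ φ₂ 1)
    (e₁ : trivObj (FrB.GLn n S) (Sga84.sp h A₁) ⟶ Fc F hb₁) (he₁ : IsFrame F e₁)
    (e₂ : trivObj (FrB.GLn n S) (Sga84.sp h A₂) ⟶ Fc F hb₂) (he₂ : IsFrame F e₂)
    (g : Sga84.sp h A₁₂ ⟶ FrB.GLn n S)
    (hg : res F hBG e₁ he₁ φ₁ 1 r₁ (hb' := hb₁₂) = tr g ≫ res F hBG e₂ he₂ φ₂ 1 r₂)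
    (α β : A₁₂ →ₐ[R] A') (uα : A'ˣ) (rα : ChartRel a b₁₂ b' α uα) (rβ : ChartRel a b₁₂ b' β 1)
    (r₁α : ChartRel a b₁ b' (α.comp φ₁) uα) (r₁β : ChartRel a b₁ b' (β.comp φ₁) 1)
    (h₁ : res F hBG e₁ he₁ (α.comp φ₁) uα r₁α (hb' := hb') = res F hBG e₁ he₁ (β.comp φ₁) 1 r₁β)
    (α₂ β₂ : A₂ →ₐ[R] A₂') (u₂ : A₂'ˣ) (κ : A₂' →ₐ[R] A') (rα₂ : ChartRel a b₂ b₂' α₂ u₂)
    (rβ₂ : ChartRel a b₂ b₂' β₂ 1) (rκ : ChartRel a b₂' b' κ 1) (hκα : κ.comp α₂ = α.comp φ₂)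
    (hκβ : κ.comp β₂ = β.comp φ₂) (hκu : Units.map κ.toRingHom.toMonoidHom u₂ = uα) :
    ∃ c : Sga84.sp h A₂' ⟶ FrB.GLn n S, (coMat g).map α * (coMat c).map κ = (coMat g).map β := by
  obtain ⟨c₀, hc₀⟩ := frame_diff hBG _ _ (isFrame_res F hBG e₂ he₂ β₂ 1 rβ₂ (hb' := hb₂'))
    (isFrame_res F hBG e₂ he₂ α₂ u₂ rα₂ (hb' := hb₂'))
  have r₂α : ChartRel a b₂ b' (α.comp φ₂) uα := by
    have := chartRel_comp a rα₂ rκ
    rwa [hκα, hκu, one_mul] at this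
  have r₂β : ChartRel a b₂ b' (β.comp φ₂) 1 := by
    have := chartRel_comp a rβ₂ rκ
    rwa [hκβ, map_one, one_mul] at this
  refine ⟨c₀, ?_⟩
  have hrel := trans_rel F hBG r₁ r₂ e₁ he₁ e₂ he₂ g hg α β uα 1 rα rβ r₁α r₁β r₂α r₂β h₁
    (Sga84.spMap h κ ≫ c₀) (by
      rw [← res_res F hBG e₂ he₂ α₂ u₂ rα₂ κ 1 rκ (α.comp φ₂) uα r₂α hκα (by rw [one_mul]; exact hκu) (hb' := hb₂'),
        ← res_res F hBG e₂ he₂ β₂ 1 rβ₂ κ 1 rκ (β.comp φ₂) 1 r₂β hκβ (by simp) (hb' := hb₂'),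
        res_congr F hBG _ _ _ (isFrame_tr F c₀ _ (isFrame_res F hBG e₂ he₂ β₂ 1 rβ₂)) hc₀ κ κ 1 1 rκ rκ rfl rfl,
        res_tr F hBG c₀ _ (isFrame_res F hBG e₂ he₂ β₂ 1 rβ₂)])
  rwa [coMat_comp _ κ.toRingHom rfl] at hrel

/-- Invariant frames have an invariant transition matrix. -/
theorem trans_rel_invariant {A' : Type u} [CommRing A'] [Algebra R A'] {b' : B →ₐ[R] A'} {hb' : P (chartR h a b')}
    (r₁ : ChartRel a b₁ b₁₂ φ₁ 1) (r₂ : ChartRel a b₂ b₁₂ φ₂ 1)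
    (e₁ : trivObj (FrB.GLn n S) (Sga84.sp h A₁) ⟶ Fc F hb₁) (he₁ : IsFrame F e₁)
    (e₂ : trivObj (FrB.GLn n S) (Sga84.sp h A₂) ⟶ Fc F hb₂) (he₂ : IsFrame F e₂)
    (g : Sga84.sp h A₁₂ ⟶ FrB.GLn n S)
    (hg : res F hBG e₁ he₁ φ₁ 1 r₁ (hb' := hb₁₂) = tr g ≫ res F hBG e₂ he₂ φ₂ 1 r₂)
    (α β : A₁₂ →ₐ[R] A') (uα uβ : A'ˣ) (rα : ChartRel a b₁₂ b' α uα) (rβ : ChartRel a b₁₂ b' β uβ)
    (r₁α : ChartRel a b₁ b' (α.comp φ₁) uα) (r₁β : ChartRel a b₁ b' (β.comp φ₁) uβ)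
    (r₂α : ChartRel a b₂ b' (α.comp φ₂) uα) (r₂β : ChartRel a b₂ b' (β.comp φ₂) uβ)
    (h₁ : res F hBG e₁ he₁ (α.comp φ₁) uα r₁α (hb' := hb') = res F hBG e₁ he₁ (β.comp φ₁) uβ r₁β)
    (h₂ : res F hBG e₂ he₂ (α.comp φ₂) uα r₂α (hb' := hb') = res F hBG e₂ he₂ (β.comp φ₂) uβ r₂β) :
    (coMat g).map α = (coMat g).map β := by
  have h := trans_rel F hBG r₁ r₂ e₁ he₁ e₂ he₂ g hg α β uα uβ rα rβ r₁α r₁β r₂α r₂β h₁ (unitPt _ n)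
    (h₂.trans ((Category.id_comp _).symm.trans (congrArg (· ≫ _) (tr_one _).symm)))
  rwa [coMat_unitPt, Matrix.mul_one] at h

end Groth.Agent.GL44
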