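import Groth.Agent.GL44.Conclude
import Groth.Agent.GL44.Trans
import Groth.Agent.GL44.Shift
import Groth.Agent.GL44.LineChart

/-!
The classifying category of the general linear group fills the punctured theta stack.
-/

set_option autoImplicit false
set_option maxHeartbeats 1000000
set_option linter.style.haveILetI false
set_option linter.unusedSectionVars false
set_option backward.isDefEq.respectTransparency false
set_option backward.isDefEq.respectTransparency.types false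
universe u

open CategoryTheory CategoryTheory.Limits MonoidalCategory CartesianMonoidalCategory AlgebraicGeometry AlgSt FibCat
open Groth.Agent.AlgSt88 Groth.Agent.BGaST Groth.Agent.Theta44
open scoped TensorProduct Polynomial MonObj GrpObj Matrix

noncomputable section

namespace Groth.Agent.GL44

theorem lpMap_tp {R F : Type u} [CommRing R] [CommRing F] [Algebra R F] (i : ℤ) : lpMap R F (tp i) = tp i := by
  simp [lpMap, tp]

theorem isUnit_det_map {A A' : Type u} [CommRing A] [CommRing A'] {n : ℕ} (φ : A →+* A')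
    {M : Matrix (Fin n) (Fin n) A} (hM : IsUnit M.det) : IsUnit (M.map φ).det := by
  rw [← RingHom.mapMatrix_apply, ← RingHom.map_det]
  exact hM.map _

/-- The unit with the inverse variable in the parameter. -/
def shiftUnit (R : Type u) [CommRing R] (A : Type u) [CommRing A] [Algebra R A] : (A ⊗[R] LP R)ˣ :=
  Units.map (Algebra.TensorProduct.includeRight : LP R →ₐ[R] A ⊗[R] LP R).toRingHom.toMonoidHom (tpU (-1))

theorem shiftUnit_val (R : Type u) [CommRing R] (A : Type u) [CommRing A] [Algebra R A] :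
    (shiftUnit R A : A ⊗[R] LP R) = 1 ⊗ₜ[R] tp (-1) := rfl

variable {S : Scheme.{u}} {n : ℕ} {R : Type u} [CommRing R] [IsDomain R] [IsDiscreteValuationRing R]

theorem liftsUniquely_theta (hG : IsAffineHom (FrB.GLn n S).hom) {π : R} (hπ : Irreducible π)
    (h : Spec (CommRingCat.of R) ⟶ S) :
    LiftSq.LiftsUniquely (ThetaS.thetaIncl Scheme.fppfPrecoverage R π h) (toSelf (BGc (FrB.GLn n S))) := by
  classical
  let F := FractionRing R
  let b₁ : R[X] →ₐ[R] LP R := toLP R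
  let b₂ : R[X] →ₐ[R] F[X] := Polynomial.mapAlgHom (Algebra.ofId R F)
  let φ₁ : LP R →ₐ[R] LP F := lpMap R F
  let φ₂ : F[X] →ₐ[R] LP F := toLPR R F
  let b₁₂ : R[X] →ₐ[R] LP F := φ₁.comp b₁
  have hb1X : b₁ Polynomial.X = tp 1 := by simp [b₁, toLP]
  have hb12X : b₁₂ Polynomial.X = tp 1 := by simp [b₁₂, φ₁, hb1X, lpMap_tp]
  have hb2X : b₂ Polynomial.X = Polynomial.X := by simp [b₂]
  have h₂ : φ₂.comp b₂ = b₁₂ := Polynomial.algHom_ext (by
    rw [AlgHom.comp_apply, hb2X, hb12X]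
    simp [φ₂, toLP])
  have hb1C : b₁ (Polynomial.C π) = algebraMap R (LP R) π := by
    rw [← Polynomial.algebraMap_eq]
    exact b₁.commutes π
  refine liftsUniquely_of_frames h (ThetaS.lineAction R) b₁ b₂ b₁₂ φ₁ φ₂ hG
    (fun c hc => (mul_eq_zero.1 hc).resolve_left Polynomial.X_ne_zero) (fun c hc => ?_) univPt_lineAction
    ⟨_, (isUnit_zPow 1).map _, Polynomial.aeval_X _⟩ ⟨1, isUnit_one, ?_⟩ _ (fun A => Iff.rfl) isAway_toLP
    (isAway_polynomial hπ) (by rw [hb1C]; exact isAway_lpMap hπ) rfl h₂ (fun Fn hP => ?_)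
  · rw [Polynomial.X_dvd_iff, Polynomial.coeff_C_mul] at hc
    exact Polynomial.X_dvd_iff.2 ((mul_eq_zero.1 hc).resolve_left hπ.ne_zero)
  · rw [one_mul, Polynomial.aeval_C, Algebra.TensorProduct.algebraMap_apply, Polynomial.algebraMap_eq]
  -- the charts
  obtain ⟨hflat, hlfp⟩ := flat_lfp_GLn n S
  have hBG := (isStack_BG hG).1
  let a := ThetaS.lineAction R
  let b₀ : R[X] →ₐ[R] R := ThetaS.lineOne R
  let b' : R[X] →ₐ[R] LP F ⊗[R] LP R :=
    (Algebra.TensorProduct.includeLeft : LP F →ₐ[R] LP F ⊗[R] LP R).comp b₁₂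
  let b₂' : R[X] →ₐ[R] F[X] ⊗[R] LP R :=
    (Algebra.TensorProduct.includeLeft : F[X] →ₐ[R] F[X] ⊗[R] LP R).comp b₂
  have p₀ := hP b₀ (Or.inl (by simp [b₀]))
  have hu1 : IsUnit (b₁ Polynomial.X) := by rw [hb1X]; exact isUnit_tp 1
  have hu2 : IsUnit (b₂ (Polynomial.C π)) := (isAway_polynomial (F := F) hπ).isUnit
  have p₁ := hP b₁ (Or.inl hu1)
  have p₂ := hP b₂ (Or.inr hu2)
  have p₁₂ := hP b₁₂ (Or.inl (by rw [hb12X]; exact isUnit_tp 1))
  have p' := hP b' (Or.inl (by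
    rw [AlgHom.comp_apply, hb12X]
    exact (isUnit_tp 1).map _))
  have p₂' := hP (A := F[X] ⊗[R] LP R) b₂' (Or.inr (by rw [AlgHom.comp_apply]; exact hu2.map _))
  -- the frame pulled back from the point
  obtain ⟨e₀, he₀⟩ := exists_frame Fn hG p₀ (free_of_local R)
  have r₀ : ChartRel a b₀ b₁ (Algebra.ofId R (LP R)) (tpU 1) := chartRel_line (by
    rw [hb1X, tpU_val, show b₀ Polynomial.X = 1 by simp [b₀], map_one, mul_one])
  obtain ⟨e₁, he₁, he₁'⟩ : ∃ e₁ : trivObj (FrB.GLn n S) (Sga84.sp h (LP R)) ⟶ Fc Fn p₁, ∃ he₁ : IsFrame Fn e₁,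
      ∀ (α β : LP R →ₐ[R] LP F ⊗[R] LP R) (uα uβ : (LP F ⊗[R] LP R)ˣ) (rα : ChartRel a b₁ b' α uα)
        (rβ : ChartRel a b₁ b' β uβ), uα * Units.map α.toRingHom.toMonoidHom (tpU 1) =
          uβ * Units.map β.toRingHom.toMonoidHom (tpU 1) →
        res Fn hBG e₁ he₁ α uα rα (hb' := p') = res Fn hBG e₁ he₁ β uβ rβ :=
    ⟨res Fn hBG e₀ he₀ _ _ r₀, isFrame_res Fn hBG e₀ he₀ _ _ r₀, fun α β uα uβ rα rβ hw =>
      res_invariant Fn hBG e₀ he₀ _ r₀ α β uα uβ rα rβ hw⟩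
  obtain ⟨e₂, he₂⟩ := exists_frame Fn hG p₂ (free_of_pid F[X])
  obtain ⟨g, hg⟩ := exists_trans Fn hBG (chartRel_one a rfl) (chartRel_one a h₂) e₁ he₁ e₂ he₂ (hb₁₂ := p₁₂)
  -- the two pullbacks
  let α : LP F →ₐ[R] LP F ⊗[R] LP R := shift R F
  let β : LP F →ₐ[R] LP F ⊗[R] LP R := Algebra.TensorProduct.includeLeft
  let α₂ : F[X] →ₐ[R] F[X] ⊗[R] LP R := shiftPol R F
  let β₂ : F[X] →ₐ[R] F[X] ⊗[R] LP R := Algebra.TensorProduct.includeLeft
  let κ : F[X] ⊗[R] LP R →ₐ[R] LP F ⊗[R] LP R := Algebra.TensorProduct.map φ₂ (AlgHom.id R (LP R))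
  let uα := shiftUnit R (LP F)
  have hα1 : (uα : LP F ⊗[R] LP R) * α (tp 1) = tp 1 ⊗ₜ[R] (1 : LP R) := by
    rw [shiftUnit_val, shift_tp, Algebra.TensorProduct.tmul_mul_tmul, one_mul, tp_mul,
      show (-1 : ℤ) + 1 = 0 by norm_num, tp_zero]
  have hα2 : (shiftUnit R F[X] : F[X] ⊗[R] LP R) * α₂ Polynomial.X = Polynomial.X ⊗ₜ[R] (1 : LP R) := by
    rw [shiftUnit_val, show α₂ Polynomial.X = (Polynomial.X : F[X]) ⊗ₜ[R] (tp 1 : LP R) by simp [α₂, shiftPol],
      Algebra.TensorProduct.tmul_mul_tmul, one_mul, tp_mul, show (-1 : ℤ) + 1 = 0 by norm_num, tp_zero]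
  have hκα : κ.comp α₂ = α.comp φ₂ := AlgHom.ext fun f => (shift_toLP f).symm
  have hκβ : κ.comp β₂ = β.comp φ₂ := AlgHom.ext fun f => by simp [κ, β, β₂]
  have hκu : Units.map κ.toRingHom.toMonoidHom (shiftUnit R F[X]) = uα := Units.ext (by
    show κ (shiftUnit R F[X] : F[X] ⊗[R] LP R) = _
    rw [shiftUnit_val, shiftUnit_val, Algebra.TensorProduct.map_tmul, map_one, AlgHom.id_apply])
  have rα : ChartRel a b₁₂ b' α uα := chartRel_line (by
    rw [show b' Polynomial.X = b₁₂ Polynomial.X ⊗ₜ[R] (1 : LP R) from rfl, hb12X]; exact hα1)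
  have rβ : ChartRel a b₁₂ b' β 1 := chartRel_one a rfl
  have rα₂ : ChartRel a b₂ b₂' α₂ (shiftUnit R F[X]) := chartRel_line (by
    rw [show b₂' Polynomial.X = b₂ Polynomial.X ⊗ₜ[R] (1 : LP R) from rfl, hb2X]; exact hα2)
  have rβ₂ : ChartRel a b₂ b₂' β₂ 1 := chartRel_one (A' := F[X] ⊗[R] LP R) a rfl
  have hκb : κ.comp b₂' = b' := by
    show κ.comp (β₂.comp b₂) = β.comp b₁₂
    rw [← AlgHom.comp_assoc, hκβ, AlgHom.comp_assoc, h₂]
  have rκ : ChartRel (A := F[X] ⊗[R] LP R) a b₂' b' κ 1 := chartRel_one (A := F[X] ⊗[R] LP R) a hκb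
  have r₁α : ChartRel a b₁ b' (α.comp φ₁) uα := by
    have := chartRel_comp a (chartRel_one a (rfl : φ₁.comp b₁ = b₁₂)) rα
    rwa [map_one, mul_one] at this
  have r₁β : ChartRel a b₁ b' (β.comp φ₁) 1 := chartRel_one a rfl
  obtain ⟨c₀, hrel⟩ := trans_rel_lift Fn hBG (hb₂' := p₂') (hb' := p') (chartRel_one a rfl) (chartRel_one a h₂)
    e₁ he₁ e₂ he₂ g hg α β uα rα rβ r₁α r₁β (he₁' _ _ _ _ r₁α r₁β (Units.ext (by
      show (uα : LP F ⊗[R] LP R) * α (φ₁ (tp 1)) = 1 * β (φ₁ (tp 1))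
      rw [lpMap_tp, one_mul]
      exact hα1))) α₂ β₂ (shiftUnit R F[X]) κ rα₂ rβ₂ rκ hκα hκβ hκu
  let C' : Matrix (Fin n) (Fin n) (LP F ⊗[R] LP R) := (coMat c₀).map κ
  have hC' : IsUnit C'.det := by
    exact isUnit_det_map κ.toRingHom (coMat_isUnit c₀)
  have hgr : ∀ v : Fin n → LP F, (∀ j, (v ᵥ* coMat g) j ∈ pol) → ∀ i : ℤ,
      ∀ j, ((fun k => cf i (v k) • tp i) ᵥ* coMat g) j ∈ pol := fun v hv i =>
    graded_of_translate α shift_smul_tp (coMat g) C'⁻¹ C' (fun k l => map_mem_polT _)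
      (Matrix.nonsing_inv_mul _ hC') (by
        show (coMat g).map α = (coMat g).map β * C'⁻¹
        rw [← hrel, Matrix.mul_assoc]
        exact ((congrArg ((coMat g).map α * ·) (Matrix.mul_nonsing_inv _ hC')).trans (mul_one _)).symm) v hv i
  obtain ⟨w, Bm, hBm, hH, U, hU, hUH⟩ := exists_theta_split (R := R) (coMat g) (coMat_isUnit g) hgr
  -- the changes of frames
  let M₁ : Matrix (Fin n) (Fin n) (LP R) :=
    Matrix.diagonal (fun k => tp (w k)) * Bm.map (algebraMap R (LP R))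
  have hM₁ : IsUnit M₁.det := by
    rw [Matrix.det_mul, Matrix.det_diagonal]
    refine (IsUnit.prod_univ_iff.2 fun k => isUnit_tp (w k)).mul ?_
    rw [← RingHom.mapMatrix_apply, ← RingHom.map_det]
    exact hBm.map _
  choose H₂ hH₂ using fun i j => exists_toLP (hH i j)
  choose U₂ hU₂ using fun i j => exists_toLP (hU i j)
  have hM₂ : IsUnit (Matrix.of H₂).det := by
    refine IsUnit.of_mul_eq_one (Matrix.of U₂).det ?_
    rw [mul_comm, ← Matrix.det_mul]
    suffices e : Matrix.of U₂ * Matrix.of H₂ = 1 by rw [e, Matrix.det_one]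
    refine Matrix.map_injective toLP_injective ?_
    show (Matrix.of U₂ * Matrix.of H₂).map (toLP F) = (1 : Matrix (Fin n) (Fin n) F[X]).map (toLP F)
    rw [Matrix.map_mul, Matrix.map_one _ (map_zero _) (map_one _), ← hUH]
    congr 1
    · exact Matrix.ext hU₂
    · exact Matrix.ext hH₂
  obtain ⟨g₁, hg₁⟩ := coMat_surjective (n := n) (k := Spec.map (CommRingCat.ofHom (algebraMap R (LP R))) ≫ h) M₁ hM₁
  obtain ⟨g₂, hg₂⟩ := coMat_surjective (n := n) (k := Spec.map (CommRingCat.ofHom (algebraMap R F[X])) ≫ h)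
    (Matrix.of H₂) hM₂
  refine ⟨p₁, p₂, p₁₂, tr g₁ ≫ e₁, isFrame_tr Fn g₁ e₁ he₁, tr g₂ ≫ e₂, isFrame_tr Fn g₂ e₂ he₂,
    res_tr_eq Fn hBG _ _ e₁ he₁ e₂ he₂ g hg g₁ g₂ ?_⟩
  rw [hg₁, hg₂]
  refine Eq.trans ?_ (Matrix.ext hH₂).symm
  refine congrArg (· * coMat g) ?_
  refine (Matrix.map_mul (f := φ₁.toRingHom)).trans ?_
  congr 1
  · rw [Matrix.diagonal_map (map_zero _)]
    exact congrArg Matrix.diagonal (funext fun k => lpMap_tp (w k))
  · rw [Matrix.map_map]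
    exact congrArg Bm.map (funext fun r => φ₁.commutes r)

end Groth.Agent.GL44
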